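import Groth.Prelude.Def_AlgSpDec
import Groth.Agent.AlgSp.K609.Points

/-!
# Formal calculus of decent sheaves and decent morphisms

Everything here is for arbitrary sheaves in `AlgSp.Sp S`.
-/

set_option autoImplicit false

universe u

open CategoryTheory CategoryTheory.Limits AlgebraicGeometry Opposite AlgSp

namespace K620.Dec

variable {S : Scheme.{u}}

theorem repWith_comp {P : MorphismProperty Scheme.{u}} [P.IsStableUnderBaseChange] [P.IsMultiplicative]
    {F G H : Sp S} {f : F ⟶ G} {g : G ⟶ H} (hf : RepWith P f) (hg : RepWith P g) : RepWith P (f ≫ g) :=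
  (repWith_isMultiplicative P).toIsStableUnderComposition.comp_mem _ _ hf hg

theorem repWith_of_isPullback {P : MorphismProperty Scheme.{u}}
    {F' F G' G : Sp S} {fst : F' ⟶ F} {snd : F' ⟶ G'} {f : F ⟶ G} {g : G' ⟶ G}
    (sq : IsPullback fst snd f g) (hf : RepWith P f) : RepWith P snd :=
  (repWith_isStableUnderBaseChange P).of_isPullback sq hf

/-- `F` is decent at the point `x`. -/
def DecentAt (F : Sp S) (x : Points F) : Prop :=
  ∃ p : FieldPt F, Points.mk p = x ∧ Mono p.toHom ∧ RepWith @QuasiCompact p.toHom

theorem isDecent_iff {F : Sp S} : IsDecent F ↔ ∀ x, DecentAt F x := Iff.rfl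

/-- A monomorphism of sheaves is injective on sections. -/
theorem injective_app_of_mono {F G : Sp S} (f : F ⟶ G) (hf : Mono f) (T : Over S) :
    Function.Injective (f.hom.app (op T)) := by
  have : Mono f.hom := inferInstanceAs (Mono ((sheafToPresheaf _ _).map f))
  have := (NatTrans.mono_iff_mono_app f.hom).1 this (op T)
  exact (mono_iff_injective _).1 this

/-- A monomorphism of sheaves is injective on points. -/
theorem injective_map_of_mono {F G : Sp S} (f : F ⟶ G) (hf : Mono f) : Function.Injective (Points.map f) := by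
  intro x y h
  induction x using Points.ind with
  | h p =>
  induction y using Points.ind with
  | h q =>
  rw [Points.map_mk, Points.map_mk, Points.mk_eq_mk_iff] at h
  obtain ⟨Ω, hΩ, w, a, b, hab⟩ := h
  let a' : Over.mk w ⟶ p.pt := a
  let b' : Over.mk w ⟶ q.pt := b
  refine Points.sound ⟨Ω, hΩ, w, a', b', ?_⟩
  have hab' : f.hom.app _ (F.obj.map a'.op p.val) = f.hom.app _ (F.obj.map b'.op q.val) := by
    rw [NatTrans.naturality_apply, NatTrans.naturality_apply]
    exact hab
  exact injective_app_of_mono f hf _ hab'

/-- The residue field point of a scheme is a monomorphism and representable quasi-compact. -/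
theorem qcMono_ofPt_id (T : Over S) (t : ↥T.left) :
    Mono (FieldPt.ofPt (𝟙 ((yon S).obj T)) t).toHom ∧
      RepWith @QuasiCompact (FieldPt.ofPt (𝟙 ((yon S).obj T)) t).toHom := by
  have h : (FieldPt.ofPt (𝟙 ((yon S).obj T)) t).toHom =
      (yon S).map (Over.homMk (T.left.fromSpecResidueField t) rfl) := by
    rw [FieldPt.toHom_ofPt, Category.comp_id]
  have hl : Mono (Over.homMk (T.left.fromSpecResidueField t) rfl :
        Over.mk (T.left.fromSpecResidueField t ≫ T.hom) ⟶ T) := by
      have : Mono (Over.homMk (T.left.fromSpecResidueField t) rfl :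
        Over.mk (T.left.fromSpecResidueField t ≫ T.hom) ⟶ T).left :=
        inferInstanceAs (Mono (T.left.fromSpecResidueField t))
      exact Over.mono_of_mono_left _
  refine ⟨?_, ?_⟩
  · rw [h]
    exact @Functor.map_mono _ _ _ _ (yon S) _ _ _ _ hl
  · rw [h]
    refine (repWith_yon_map_iff _ _).2 ?_
    exact inferInstanceAs (QuasiCompact (T.left.fromSpecResidueField t))

theorem decentAt_yon (T : Over S) (x : Points ((yon S).obj T)) : DecentAt ((yon S).obj T) x := by
  obtain ⟨t, rfl⟩ := K609.Points.ofScheme_surjective T x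
  exact ⟨_, rfl, qcMono_ofPt_id T t⟩

/-- `h_T` is decent. -/
theorem isDecent_yon (T : Over S) : IsDecent ((yon S).obj T) := decentAt_yon T

/-- Push forward of decency along a monomorphism that is representable quasi-compact. -/
theorem DecentAt.map {F G : Sp S} {f : F ⟶ G} (hm : Mono f) (hf : RepWith @QuasiCompact f) {x : Points F}
    (h : DecentAt F x) : DecentAt G (Points.map f x) := by
  obtain ⟨p, hp, hpm, hpq⟩ := h
  refine ⟨p.map f, by rw [← Points.map_mk, hp], ?_, ?_⟩
  · rw [FieldPt.toHom_map]; exact @mono_comp _ _ _ _ _ _ hpm _ hm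
  · rw [FieldPt.toHom_map]; exact repWith_comp hpq hf

/-- If `r : Z ⟶ Y` is a quasi-compact monomorphism and `X ×_Y Z` is decent at a point `x'` then `X` is decent at the
image of `x'`. -/
theorem decentAt_of_fibre {X Y F : Sp S} {f : X ⟶ Y} {Z : Sp S} {r : Z ⟶ Y} (hr : Mono r)
    (hq : RepWith @QuasiCompact r) {fst : F ⟶ X} {snd : F ⟶ Z}
    (sq : IsPullback fst snd f r) {x' : Points F} (h : DecentAt F x') : DecentAt X (Points.map fst x') :=
  DecentAt.map (MorphismProperty.of_isPullback (P := .monomorphisms _) sq.flip hr)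
    (repWith_of_isPullback sq.flip hq) h

/-- The class of a field point `p` is the image under `p.toHom` of the point of `h_{Spec k}`. -/
theorem map_toHom_ofScheme {F : Sp S} (p : FieldPt F) (s : ↥p.pt.left) :
    Points.map p.toHom (Points.ofScheme p.pt s) = Points.mk p := by
  rw [← Points.ofPt_eq_map_ofScheme]
  exact Points.ofPt_toHom p s

/-- Local form: `X` is decent at `x` if for some qc mono point `p` of `Y` below `x`, the fibre is decent. -/
theorem decentAt_of_fibre_isDecent {X Y : Sp S} (f : X ⟶ Y) (x : Points X) (p : FieldPt Y)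
    (hp : Points.mk p = Points.map f x) (hm : Mono p.toHom) (hq : RepWith @QuasiCompact p.toHom)
    (h : ∀ (F : Sp S) (fst : F ⟶ X) (snd : F ⟶ (yon S).obj p.pt), IsPullback fst snd f p.toHom →
      IsDecent F) : DecentAt X x := by
  have sq := IsPullback.of_hasPullback f p.toHom
  have e : Points.map f x =
      Points.map p.toHom (Points.ofScheme p.pt (IsLocalRing.closedPoint p.K)) := by
    rw [← hp]
    exact (map_toHom_ofScheme p _).symm
  obtain ⟨x', hx', -⟩ := K609.Points.exists_of_isPullback sq x _ e
  rw [← hx']
  exact decentAt_of_fibre hm hq sq (h _ _ _ sq x')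

/-- Decency goes up along representable morphisms. -/
theorem isDecent_of_representable {F G : Sp S} (f : F ⟶ G) (hf : Representable f) (hG : IsDecent G) :
    IsDecent F := by
  intro x
  obtain ⟨p, hp, hm, hq⟩ := hG (Points.map f x)
  refine decentAt_of_fibre_isDecent f x p hp hm hq ?_
  intro F' fst snd sq
  obtain ⟨V, snd', fst', sq'⟩ := hf p.toHom
  exact (isDecent_yon V).of_iso (sq'.isoIsPullback _ _ sq)

/-- `f` decent and the target decent implies the source decent. -/
theorem isDecent_of_isDecentMor {F G : Sp S} (f : F ⟶ G) (hf : IsDecentMor f) (hG : IsDecent G) :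
    IsDecent F := by
  intro x
  obtain ⟨p, hp, hm, hq⟩ := hG (Points.map f x)
  exact decentAt_of_fibre_isDecent f x p hp hm hq fun F' fst snd sq => hf p.toHom fst snd sq

/-- Decent morphisms are stable under base change (by arbitrary sheaves). -/
theorem isDecentMor_of_isPullback {F G F' G' : Sp S} {f : F ⟶ G} {g : G' ⟶ G} {fst : F' ⟶ F} {snd : F' ⟶ G'}
    (sq : IsPullback fst snd f g) (hf : IsDecentMor f) : IsDecentMor snd := by
  intro T F'' t fst' snd' sq'
  exact hf (t ≫ g) (fst' ≫ fst) snd' (sq'.paste_horiz sq)

/-- Decent morphisms compose. -/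
theorem isDecentMor_comp {F G H : Sp S} {f : F ⟶ G} {g : G ⟶ H} (hf : IsDecentMor f) (hg : IsDecentMor g) :
    IsDecentMor (f ≫ g) := by
  intro T P t fst snd sq
  -- the base change `G_T` of `g` and the induced map `P ⟶ G_T`
  have sqG := IsPullback.of_hasPullback g t
  have hGT : IsDecent (pullback g t) := hg t _ _ sqG
  have hw : (fst ≫ f) ≫ g = snd ≫ t := by rw [Category.assoc]; exact sq.w
  have h1 : IsPullback fst (pullback.lift (fst ≫ f) snd hw) f (pullback.fst g t) := by
    refine IsPullback.of_bot ?_ (pullback.lift_fst _ _ _).symm sqG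
    rw [pullback.lift_snd]
    exact sq
  exact isDecent_of_isDecentMor _ (isDecentMor_of_isPullback h1 hf) hGT

/-- A morphism to a sheaf `G` such that all maps from schemes to `G` are representable (for instance an algebraic space)
with decent source is decent. -/
theorem isDecentMor_of_source {F G : Sp S} (hG : IsAlgSpace G) (f : F ⟶ G) (hF : IsDecent F) : IsDecentMor f := by
  intro T P t fst snd sq
  have h1 : Representable t := hG.representable_from_yon t
  have h2 : Representable fst := MorphismProperty.of_isPullback (P := Representable) sq.flip h1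
  exact isDecent_of_representable fst h2 hF

/-- A fibre product of decent sheaves over an algebraic space is decent. -/
theorem isDecent_of_isPullback {X Y Z P : Sp S} (hY : IsAlgSpace Y) {f : X ⟶ Y} {g : Z ⟶ Y}
    {fst : P ⟶ X} {snd : P ⟶ Z} (h : IsPullback fst snd f g) (hX : IsDecent X) (hZ : IsDecent Z) :
    IsDecent P :=
  isDecent_of_isDecentMor snd (isDecentMor_of_isPullback h (isDecentMor_of_source hY f hX)) hZ

/-- A sheaf over a scheme `T` whose fibres over the points of `T` are decent is decent. -/
theorem isDecent_of_fibres {P : Sp S} {T : Over S} (f : P ⟶ (yon S).obj T)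
    (h : ∀ (t : ↥T.left) (F : Sp S) (fst : F ⟶ P)
      (snd : F ⟶ (yon S).obj (Over.mk (T.left.fromSpecResidueField t ≫ T.hom))),
      IsPullback fst snd f ((yon S).map (Over.homMk (T.left.fromSpecResidueField t) rfl)) → IsDecent F) :
    IsDecent P := by
  intro x
  obtain ⟨t, ht⟩ := K609.Points.ofScheme_surjective T (Points.map f x)
  have key := FieldPt.toHom_ofPt (𝟙 ((yon S).obj T)) t
  rw [Category.comp_id] at key
  refine decentAt_of_fibre_isDecent f x (FieldPt.ofPt (𝟙 _) t) ht (qcMono_ofPt_id T t).1
    (qcMono_ofPt_id T t).2 fun F fst snd sq => h t F fst snd ?_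
  exact (congrArg (fun r => IsPullback fst snd f r) key).mp sq

/-- A morphism all of whose base changes to spectra of fields are decent is decent. -/
theorem isDecentMor_of_field_base_changes {X Y : Sp S} (f : X ⟶ Y)
    (h : ∀ (k : Type u) (_ : Field k) (str : Spec (CommRingCat.of k) ⟶ S)
      (g : (yon S).obj (Over.mk str) ⟶ Y) (P : Sp S) (fst : P ⟶ X)
      (snd : P ⟶ (yon S).obj (Over.mk str)), IsPullback fst snd f g → IsDecent P) :
    IsDecentMor f := by
  intro T P t fst snd sq
  refine isDecent_of_fibres snd fun x F fst' snd' sq' => ?_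
  exact h _ inferInstance _ _ F _ snd' (sq'.paste_horiz sq)

/-- Decency of a morphism may be checked on affine base changes. -/
theorem isDecentMor_of_affine_base_changes {X Y : Sp S} (f : X ⟶ Y)
    (h : ∀ (Z : Over S) (g : (yon S).obj Z ⟶ Y) (P : Sp S) (fst : P ⟶ X)
      (snd : P ⟶ (yon S).obj Z), IsAffine Z.left → IsPullback fst snd f g → IsDecent P) :
    IsDecentMor f :=
  isDecentMor_of_field_base_changes f fun k _ _ g P fst snd sq =>
    h _ g P fst snd (inferInstanceAs (IsAffine (Spec (CommRingCat.of k)))) sq

end K620.Dec
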