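import Groth.Agent.AlgSp.K620.Patch
import Groth.Agent.AlgSp.K596.QC2
import Groth.Agent.AlgSp.K610.Chart
import Groth.Agent.AlgSp.K621.Decent
import Groth.Agent.AlgSp.K618.FieldFib

/-!
# The space of points of a quasi-separated algebraic space; locally constructible subsets

* `repWith_quasiCompact` : a morphism from a quasi-compact scheme to a quasi-separated space is quasi-compact.
* `isCompact_preimage_ofPt`, `quasiSeparatedSpace_points`, `prespectralSpace_points`, `t0Space_points`.
* `isLocallyConstructible_iff`.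
-/

set_option autoImplicit false
universe u
open CategoryTheory CategoryTheory.Limits AlgebraicGeometry Opposite Topology TopologicalSpace
open AlgSp

namespace K620.Constr

variable {S : Scheme.{u}} [QuasiSeparatedSpace ↥S]

theorem repWith_quasiCompact {X : Sp S} (hX : IsAlgSpace X) (hq : IsQuasiSeparatedSp X) {T : Over S}
    [CompactSpace ↥T.left] (g : (yon S).obj T ⟶ X) : RepWith @QuasiCompact g :=
  K596.QC.repWith_of_isQuasiCompactMor (hX.representable_from_yon g)
    (K596.QC2.isQuasiCompactMor_of_qc_of_qs (IsAlgSpace.yon_obj T) hX g (K596.QC.isQuasiCompactSp_yon T) hq)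

theorem isCompact_preimage_ofPt {X : Sp S} (hX : IsAlgSpace X) (hq : IsQuasiSeparatedSp X) {T : Over S}
    [CompactSpace ↥T.left] (g : (yon S).obj T ⟶ X) {O : Set (Points X)} (hO : IsOpen O) (hOc : IsCompact O) :
    IsCompact (Points.ofPt g ⁻¹' O) := by
  obtain ⟨T', g', hT', -, rfl⟩ := K596.QC.exists_chart_range hX hO hOc
  obtain ⟨R, p, q, sq⟩ := K621.Base.exists_pullback hX g g'
  have hqc : QuasiCompact q.left := (repWith_quasiCompact hX hq g).2 _ _ _ sq
  have hR : CompactSpace ↥R.left := QuasiCompact.compactSpace_of_compactSpace q.left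
  have h1 : Points.ofPt g ⁻¹' Set.range (Points.map g') = Set.range p.left := by
    ext t
    constructor
    · rintro ⟨y, hy⟩
      obtain ⟨t', rfl⟩ := K609.Points.ofScheme_surjective T' y
      rw [← Points.ofPt_eq_map_ofScheme] at hy
      obtain ⟨r, hr, -⟩ := (K609.Points.ofPt_eq_ofPt_iff sq t t').1 hy.symm
      exact ⟨r, hr⟩
    · rintro ⟨r, rfl⟩
      refine ⟨Points.ofScheme T' (q.left r), ?_⟩
      rw [← Points.ofPt_eq_map_ofScheme]
      exact ((K609.Points.ofPt_eq_ofPt_iff sq _ _).2 ⟨r, rfl, rfl⟩).symm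
  rw [h1]
  exact isCompact_range p.left.continuous

theorem quasiSeparatedSpace_points {X : Sp S} (hX : IsAlgSpace X) (hq : IsQuasiSeparatedSp X) :
    QuasiSeparatedSpace (Points X) := by
  refine ⟨fun O O' hO hOc hO' hOc' => ?_⟩
  obtain ⟨T, g, hT, -, rfl⟩ := K596.QC.exists_chart_range hX hO hOc
  have h1 : Set.range (Points.map g) ∩ O' = Points.ofPt g '' (Points.ofPt g ⁻¹' O') := by
    rw [Set.image_preimage_eq_inter_range, Set.inter_comm]
    congr 1
    ext x
    constructor
    · rintro ⟨y, rfl⟩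
      obtain ⟨t, rfl⟩ := K609.Points.ofScheme_surjective T y
      exact ⟨t, Points.ofPt_eq_map_ofScheme g t⟩
    · rintro ⟨t, rfl⟩
      exact ⟨Points.ofScheme T t, (Points.ofPt_eq_map_ofScheme g t).symm⟩
  rw [h1]
  exact (isCompact_preimage_ofPt hX hq g hO' hOc').image (Points.continuous_ofPt g)

omit [QuasiSeparatedSpace ↥S] in
theorem prespectralSpace_points {X : Sp S} (hX : IsAlgSpace X) : PrespectralSpace (Points X) := by
  constructor
  refine isTopologicalBasis_of_isOpen_of_nhds (fun _ h => h.1) ?_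
  intro x O hx hO
  obtain ⟨U, a, u, ha, rfl⟩ := K621.Base.exists_chart hX x
  obtain ⟨W, hW, huW, hWO⟩ := exists_isAffineOpen_mem_and_subset (x := u)
    (U := ⟨Points.ofPt a ⁻¹' O, hO.preimage (Points.continuous_ofPt a)⟩) hx
  refine ⟨Points.ofPt a '' W, ⟨K609.Points.isOpenMap_ofPt ha _ W.isOpen,
    hW.isCompact.image (Points.continuous_ofPt a)⟩, ⟨u, huW, rfl⟩, ?_⟩
  rintro _ ⟨w, hw, rfl⟩
  exact hWO hw

theorem t0Space_points {X : Sp S} (hX : IsAlgSpace X) (hq : IsQuasiSeparatedSp X) : T0Space (Points X) := by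
  refine K621.Decent.t0Space_of_finFibres hX fun x => ?_
  obtain ⟨p, rfl⟩ := Quotient.exists_rep x
  have : CompactSpace ↥p.pt.left := inferInstanceAs (CompactSpace ↥(Spec (CommRingCat.of p.K)))
  exact K621.Decent.QCPoint.finFibres ⟨p, rfl, repWith_quasiCompact hX hq p.toHom⟩

/-- Preimages of locally constructible sets in étale charts are locally constructible. -/
theorem isLocallyConstructible_preimage {X : Sp S} (hX : IsAlgSpace X) (hq : IsQuasiSeparatedSp X)
    {E : Set (Points X)} (hE : IsLocallyConstructible E) {U : Over S} (a : (yon S).obj U ⟶ X)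
    (ha : RepWith @Etale a) : IsLocallyConstructible (Points.ofPt a ⁻¹' E) := by
  apply K610.Chart.isLocallyConstructible_of_forall
  intro u
  obtain ⟨V, hV, hVo, hVE⟩ := hE (Points.ofPt a u)
  obtain ⟨W, hW, huW, hWV⟩ := exists_isAffineOpen_mem_and_subset (x := u)
    (U := ⟨Points.ofPt a ⁻¹' V, hVo.preimage (Points.continuous_ofPt a)⟩) (show Points.ofPt a u ∈ V from mem_of_mem_nhds hV)
  refine ⟨W, huW, ?_⟩
  -- the chart `W ⟶ X`
  let W' : Over S := Over.mk (W.ι ≫ U.hom)
  let b : (yon S).obj W' ⟶ X := (yon S).map (Over.homMk W.ι rfl : W' ⟶ U) ≫ a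
  have hb : RepWith @Etale b := K618.FieldFib.repWith_etale_restrict ha W
  have hbo : ∀ w : ↥W, Points.ofPt b w = Points.ofPt a w.1 := by
    intro w
    rw [K609.Points.ofPt_yon_map_comp]
    rfl
  have hWaff : IsAffine W'.left := hW
  have hWc : CompactSpace ↥W'.left := inferInstance
  let c : ↥W → V := fun w => ⟨Points.ofPt b w, by rw [hbo]; exact hWV w.2⟩
  have hc : Continuous c := Continuous.subtype_mk (Points.continuous_ofPt b) _
  have h1 : ((↑) ⁻¹' (Points.ofPt a ⁻¹' E) : Set ↥W) = c ⁻¹' (Subtype.val ⁻¹' E) := by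
    ext w
    change Points.ofPt a w.1 ∈ E ↔ Points.ofPt b w ∈ E
    rw [hbo]
  have hqs : QuasiSeparatedSpace ↥W := inferInstanceAs (QuasiSeparatedSpace ↥W'.left)
  have hcs : CompactSpace ↥W := hWc
  rw [h1]
  refine (IsConstructible.preimage hc (fun s hs hsc => ?_) hVE).isLocallyConstructible
  refine IsCompact.isRetrocompact ?_ (hs.preimage hc)
  -- the open image of `W` in `V`
  have h2 : c ⁻¹' s = Points.ofPt b ⁻¹' (Subtype.val '' (s ∩ Set.range c)) := by
    ext w
    constructor
    · intro hw
      exact ⟨c w, ⟨hw, w, rfl⟩, rfl⟩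
    · rintro ⟨v, ⟨hv, -⟩, hvw⟩
      have : v = c w := Subtype.ext hvw
      rw [this] at hv
      exact hv
  have h3 : IsOpen (Set.range c) := by
    have h4 : Set.range c = Subtype.val ⁻¹' (Set.range (Points.ofPt b)) := by
      ext v
      constructor
      · rintro ⟨w, rfl⟩
        exact ⟨w, rfl⟩
      · rintro ⟨w, hw⟩
        exact ⟨w, Subtype.ext hw⟩
    rw [h4]
    refine IsOpen.preimage continuous_subtype_val ?_
    rw [← Set.image_univ]
    exact K609.Points.isOpenMap_ofPt hb _ isOpen_univ
  have h5 : IsCompact (s ∩ Set.range c) := hsc (isCompact_range hc) h3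
  rw [h2]
  exact isCompact_preimage_ofPt hX hq b (hVo.isOpenMap_subtype_val _ (hs.inter h3))
    (h5.image continuous_subtype_val)

/-- Local constructibility may be checked on étale charts. -/
theorem isLocallyConstructible_of_charts {X : Sp S} (hX : IsAlgSpace X) (hq : IsQuasiSeparatedSp X)
    {E : Set (Points X)} (h : ∀ (U : Over S) (a : (yon S).obj U ⟶ X), RepWith @Etale a →
      IsLocallyConstructible (Points.ofPt a ⁻¹' E)) : IsLocallyConstructible E := by
  have := quasiSeparatedSpace_points hX hq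
  have := prespectralSpace_points hX
  have := t0Space_points hX hq
  intro x
  obtain ⟨U, a, u, ha, rfl⟩ := K621.Base.exists_chart hX x
  obtain ⟨W, hW, huW, -⟩ := exists_isAffineOpen_mem_and_subset (x := u) (U := ⊤) trivial
  let W' : Over S := Over.mk (W.ι ≫ U.hom)
  let b : (yon S).obj W' ⟶ X := (yon S).map (Over.homMk W.ι rfl : W' ⟶ U) ≫ a
  have hb : RepWith @Etale b := K618.FieldFib.repWith_etale_restrict ha W
  have hWaff : IsAffine W'.left := hW
  have hWc : CompactSpace ↥W'.left := inferInstance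
  have hrange : IsOpen (Set.range (Points.ofPt b)) := by
    rw [← Set.image_univ]
    exact K609.Points.isOpenMap_ofPt hb _ isOpen_univ
  have hbu : Points.ofPt b (⟨u, huW⟩ : ↥W) = Points.ofPt a u := by
    rw [K609.Points.ofPt_yon_map_comp]
    rfl
  have hspec : IsSpectralMap (Points.ofPt b) :=
    { toContinuous := Points.continuous_ofPt b
      isCompact_preimage_of_isOpen := fun s hs hsc => isCompact_preimage_ofPt hX hq b hs hsc }
  have h1 : IsConstructible (Points.ofPt b ⁻¹' E) := (h W' b hb).isConstructible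
  have h2 : IsConstructible (E ∩ Set.range (Points.ofPt b)) := by
    refine K620.Patch.isConstructible_of_preimage hspec hrange Set.inter_subset_right ?_
    rw [Set.preimage_inter, Set.preimage_range, Set.inter_univ]
    exact h1
  refine ⟨Set.range (Points.ofPt b), hrange.mem_nhds ⟨_, hbu⟩, hrange, ?_⟩
  have h3 := h2.preimage_of_isOpenEmbedding hrange.isOpenEmbedding_subtypeVal
  have h4 : (Subtype.val ⁻¹' (E ∩ Set.range (Points.ofPt b)) : Set ↥(Set.range (Points.ofPt b))) =
      Subtype.val ⁻¹' E := by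
    ext x
    exact and_iff_left x.2
  rwa [h4] at h3

end K620.Constr
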