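import Groth.Prelude.Def_AlgSpMor5
import Groth.Agent.AlgSp.K620.Dec
import Groth.Agent.AlgSp.K618.FieldFib
import Groth.Agent.AlgSp.K611.Pt
import Groth.Agent.AlgSp.K613.Chart

/-!
# Existence part of the valuative criterion for universally closed decent morphisms
-/

set_option autoImplicit false
universe u
open CategoryTheory CategoryTheory.Limits AlgebraicGeometry Opposite Topology

namespace K620.ExistVC

open AlgSp IsLocalRing

variable {S : Scheme.{u}} {F G H P : Sp S}

/-- A specialization of the image of a field-valued point is realised by a valuation ring of this field. -/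
theorem exists_val {U : Scheme.{u}} {Ω : Type u} [Field Ω] (v : Spec (CommRingCat.of Ω) ⟶ U) (u0 : U)
    (h : v (closedPoint Ω) ⤳ u0) :
    ∃ (A' : ValuationSubring Ω) (l : Spec (CommRingCat.of A') ⟶ U),
      Spec.map (CommRingCat.ofHom (algebraMap A' Ω)) ≫ l = v ∧ l (closedPoint A') = u0 := by
  let θ : U.presheaf.stalk u0 ⟶ CommRingCat.of Ω := U.presheaf.stalkSpecializes h ≫ Scheme.stalkClosedPointTo v
  obtain ⟨A', hA, hA'⟩ := exists_factor_valuationRing θ.hom
  let φ : U.presheaf.stalk u0 ⟶ CommRingCat.of A' := CommRingCat.ofHom (θ.hom.codRestrict _ hA)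
  refine ⟨A', Spec.map φ ≫ U.fromSpecStalk u0, ?_, ?_⟩
  · rw [← Category.assoc, ← Spec.map_comp]
    have h1 : φ ≫ CommRingCat.ofHom (algebraMap A' Ω) = θ := rfl
    rw [h1, Spec.map_comp, Category.assoc, Scheme.SpecMap_stalkSpecializes_fromSpecStalk,
      Scheme.Spec_stalkClosedPointTo_fromSpecStalk]
  · rw [Scheme.Hom.comp_apply]
    have h2 : Spec.map φ (closedPoint A') = closedPoint (U.presheaf.stalk u0) :=
      comap_closedPoint (S := A') (θ.hom.codRestrict A'.toSubring hA)
    rw [h2, U.fromSpecStalk_closedPoint]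

/-- Core of the existence part: a chart `a : h_U ⟶ F` over `b : U ⟶ Spec A`, a field point `v` of `U` compatible with the
top arrow of the square, and a specialization `u0` of its image lying over the closed point of `Spec A`. -/
theorem hasLiftExt_of_specializes {f : F ⟶ G} (sq : ValSq f) {U : Over S} (a : (yon S).obj U ⟶ F)
    (b : U ⟶ sq.ptA) (hab : a ≫ f = (yon S).map b ≫ sq.bot) {Ω : Type u} [Field Ω]
    {w : Spec (CommRingCat.of Ω) ⟶ S} (v : Over.mk w ⟶ U) (g : Over.mk w ⟶ sq.ptK)
    (hvg : (yon S).map v ≫ a = (yon S).map g ≫ sq.top) (hvb : v ≫ b = g ≫ sq.j) (u0 : ↥U.left)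
    (h : v.left (closedPoint Ω) ⤳ u0) (hu0 : b.left u0 = closedPoint sq.A) : sq.HasLiftExt := by
  obtain ⟨A', l, hl, hl0⟩ := exists_val (U := U.left) (Ω := Ω) v.left u0 h
  let φ : CommRingCat.of sq.A ⟶ CommRingCat.of A' := Spec.preimage (l ≫ b.left)
  have hφ : Spec.map φ = l ≫ b.left := Spec.map_preimage _
  let ψ : CommRingCat.of sq.K ⟶ CommRingCat.of Ω := Spec.preimage g.left
  have hψ : Spec.map ψ = g.left := Spec.map_preimage _
  have hgl : v.left ≫ b.left = g.left ≫ Spec.map (CommRingCat.ofHom (algebraMap sq.A sq.K)) :=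
    congrArg (·.left) hvb
  have hcomm : (algebraMap A' Ω).comp φ.hom = ψ.hom.comp (algebraMap sq.A sq.K) := by
    have h1 : φ ≫ CommRingCat.ofHom (algebraMap A' Ω) = CommRingCat.ofHom (algebraMap sq.A sq.K) ≫ ψ := by
      apply Spec.map_injective
      rw [Spec.map_comp, Spec.map_comp, hφ, hψ, ← Category.assoc, hl, hgl]
    exact congrArg (·.hom) h1
  have hloc : IsLocalHom φ.hom := by
    rw [isLocalHom_iff_comap_closedPoint]
    have h1 : Spec.map φ (closedPoint A') = closedPoint sq.A := by
      rw [hφ]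
      exact (Scheme.Hom.comp_apply l b.left _).trans ((congrArg b.left hl0).trans hu0)
    exact h1
  let e : sq.DomExt := { A' := A', K' := Ω, φ := φ.hom, ψ := ψ.hom, comm := hcomm, isLocalHom := hloc }
  have hUs : l ≫ U.hom = Spec.map φ ≫ sq.str := by
    rw [hφ, Category.assoc]
    exact congrArg (l ≫ ·) (Over.w b).symm
  let l' : e.ptA' ⟶ U := Over.homMk l hUs
  refine ⟨e, (yon S).map l' ≫ a, ?_, ?_⟩
  · have hw : (Spec.map (CommRingCat.ofHom (algebraMap A' Ω)) ≫ Spec.map φ ≫ sq.str) = w := by
      rw [← hUs, ← Category.assoc, hl]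
      exact Over.w v
    let i : e.ptK' ⟶ Over.mk w := Over.homMk (𝟙 _) (by
      change 𝟙 _ ≫ w = _
      rw [Category.id_comp]
      exact hw.symm)
    have h1 : (Over.homMk (Spec.map (CommRingCat.ofHom (algebraMap e.A' e.K'))) rfl : e.ptK' ⟶ e.ptA') ≫ l' = i ≫ v := by
      apply Over.OverMorphism.ext
      change Spec.map (CommRingCat.ofHom (algebraMap A' Ω)) ≫ l = 𝟙 _ ≫ v.left
      rw [hl]
      exact (Category.id_comp _).symm
    rw [← Category.assoc, ← Functor.map_comp, h1, Functor.map_comp, Category.assoc, hvg, ← Category.assoc,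
      ← Functor.map_comp]
    congr 2
    apply Over.OverMorphism.ext
    change 𝟙 _ ≫ g.left = Spec.map ψ
    rw [hψ]
    exact Category.id_comp _
  · rw [Category.assoc, hab, ← Category.assoc, ← Functor.map_comp]
    congr 2
    apply Over.OverMorphism.ext
    exact hφ.symm

/-- The generic point of the spectrum of a valuation ring: a closed set containing the image of `Spec K` contains the
closed point. -/
theorem closedPoint_mem_of_isClosed {A K : Type u} [CommRing A] [IsDomain A] [IsLocalRing A] [Field K] [Algebra A K]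
    {C : Set ↥(Spec (CommRingCat.of A))} (hC : IsClosed C) (z : ↥(Spec (CommRingCat.of A))) (hz : z ∈ C) :
    (closedPoint A : PrimeSpectrum A) ∈ C :=
  (specializes_closedPoint z).mem_closed hC hz

/-- Existence part of the valuative criterion for a decent universally closed morphism of algebraic spaces. -/
theorem existVC {F G : Sp S} (hF : IsAlgSpace F) (hG : IsAlgSpace G) (f : F ⟶ G) (hd : IsDecentMor f)
    (hc : IsUnivClosedMor f) : ExistVC f := by
  intro sq
  have sqP := IsPullback.of_hasPullback f sq.bot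
  have hP : IsAlgSpace (pullback f sq.bot) := K613.Chart.isAlgSpace_pullback hF (IsAlgSpace.yon_obj _) hG _ _
  have hcl : IsClosedMap (Points.map (pullback.snd f sq.bot)) :=
    hc (IsAlgSpace.yon_obj _) sq.bot _ _ sqP
  have hdP : IsDecent (pullback f sq.bot) := hd sq.bot _ _ sqP
  let η : (yon S).obj sq.ptK ⟶ pullback f sq.bot := pullback.lift sq.top ((yon S).map sq.j) sq.comm
  let s : ↥sq.ptK.left := (closedPoint sq.K : ↥(Spec (CommRingCat.of sq.K)))
  let x : Points (pullback f sq.bot) := Points.ofPt η s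
  -- a specialization of `x` over the closed point
  have h1 : Points.ofScheme sq.ptA (closedPoint sq.A : ↥(Spec (CommRingCat.of sq.A))) ∈
      Points.map (pullback.snd f sq.bot) '' closure {x} := by
    have h2 : IsClosed (Points.map (pullback.snd f sq.bot) '' closure {x}) := hcl _ isClosed_closure
    have h3 : IsClosed (Points.schemeHomeo sq.ptA ⁻¹' (Points.map (pullback.snd f sq.bot) '' closure {x})) :=
      h2.preimage (Points.schemeHomeo sq.ptA).continuous
    have h4 : (Points.schemeHomeo sq.ptA).symm (Points.map (pullback.snd f sq.bot) x) ∈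
        Points.schemeHomeo sq.ptA ⁻¹' (Points.map (pullback.snd f sq.bot) '' closure {x}) := by
      rw [Set.mem_preimage, Homeomorph.apply_symm_apply]
      exact ⟨x, subset_closure rfl, rfl⟩
    exact closedPoint_mem_of_isClosed (K := sq.K) h3 _ h4
  obtain ⟨x0, hx0, hx0'⟩ := h1
  have hspec : x ⤳ x0 := specializes_iff_mem_closure.2 hx0
  obtain ⟨U, c, u0, hcE, -, hu0⟩ := K618.FieldFib.exists_chart_point hP x0
  obtain ⟨p, hp, -, hq⟩ := hdP x
  obtain ⟨u, hu, hux⟩ := K618.FieldFib.exists_specializes_lift p hq c hcE u0 (by rw [hp, hu0]; exact hspec)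
  obtain ⟨Ω, _, w, v, g, hvg, hv1, -⟩ := K611.exists_common_field c η u s (hux.trans hp)
  obtain ⟨b, hb⟩ := (yon S).map_surjective (c ≫ pullback.snd f sq.bot)
  refine hasLiftExt_of_specializes sq (c ≫ pullback.fst f sq.bot) b ?_ v g ?_ ?_ u0 ?_ ?_
  · rw [hb, Category.assoc, Category.assoc, pullback.condition]
  · rw [← Category.assoc, hvg, Category.assoc, pullback.lift_fst]
  · apply (yon S).map_injective
    rw [Functor.map_comp, hb, ← Category.assoc, hvg, Category.assoc, pullback.lift_snd, Functor.map_comp]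
  · rw [hv1]
    exact hu
  · apply K609.Points.ofScheme_injective sq.ptA
    rw [← K609.Points.ofPt_yon_map, hb, ← Points.map_ofPt, hu0, hx0']

end K620.ExistVC
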