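import Mathlib.RingTheory.TensorProduct.Maps
import Mathlib.RingTheory.Spectrum.Prime.Topology
import Mathlib.LinearAlgebra.FiniteDimensional.Basic
import Mathlib.LinearAlgebra.TensorProduct.Finiteness

/-!
# Infinitely many points with values in a field: the pairs accumulate at the diagonal

Let `u n : A → k` be infinitely many pairwise distinct ring homomorphisms to a field. Then the closure in
`Spec (A ⊗ A)` of the points `u n ⊗ u m`, `n ≠ m`, meets the diagonal.  (Only linear algebra is needed: the matrix
`1 - δ` has infinite rank.)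
-/

set_option autoImplicit false

open TensorProduct

namespace K620.DiagClosure

/-- The infinite matrix `1 - δ` over a field is not of finite rank. -/
theorem matrix_contradiction {k ι κ : Type*} [Field k] [Infinite ι] [Fintype κ] (X Y : ι → κ → k)
    (h0 : ∀ n, ∑ j, X n j * Y n j = 0) (h1 : ∀ n m, n ≠ m → ∑ j, X n j * Y m j = 1) : False := by
  -- the vectors `(X n, -1)` are linearly independent: the functionals `(Y m, 1)` are dual up to sign
  let v : ι → (κ → k) × k := fun n => (X n, -1)
  have hli : LinearIndependent k v := by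
    rw [linearIndependent_iff']
    intro s g hg m hm
    have e1 : ∀ j, ∑ i ∈ s, g i * X i j = 0 := by
      intro j
      have := congrArg (fun w => w.1 j) hg
      simpa [v, Prod.fst_sum, Finset.sum_apply] using this
    have e2 : ∑ i ∈ s, g i = 0 := by
      have := congrArg (fun w => w.2) hg
      simpa [v, Prod.snd_sum] using this
    have e3 : ∑ i ∈ s, g i * ∑ j, X i j * Y m j = 0 := by
      have : ∑ i ∈ s, g i * ∑ j, X i j * Y m j = ∑ j, (∑ i ∈ s, g i * X i j) * Y m j := by
        simp only [Finset.mul_sum, Finset.sum_mul]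
        rw [Finset.sum_comm]
        simp only [mul_assoc]
      rw [this]
      simp [e1]
    classical
    have e4 : ∑ i ∈ s, g i * ∑ j, X i j * Y m j = ∑ i ∈ s, g i - g m := by
      rw [← Finset.sum_erase_add _ _ hm, h0, mul_zero, add_zero, ← Finset.sum_erase_add _ (fun i => g i) hm,
        add_sub_cancel_right]
      refine Finset.sum_congr rfl fun i hi => ?_
      rw [h1 i m (Finset.ne_of_mem_erase hi), mul_one]
    rw [e3, e2] at e4
    simpa using e4.symm
  have := hli.finite
  exact not_finite ι

/-- Ring version. -/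
theorem ring_contradiction {Z A k ι : Type*} [CommRing Z] [CommRing A] [Field k] [Algebra Z A] [Algebra Z k]
    [Infinite ι] (u : ι → A →ₐ[Z] k)
    (f : A ⊗[Z] A) (hf : Algebra.TensorProduct.lmul' Z f = 0)
    (h1 : ∀ n m, n ≠ m → Algebra.TensorProduct.productMap (u n) (u m) f = 1) : False := by
  obtain ⟨s, rfl⟩ := TensorProduct.exists_finset f
  refine matrix_contradiction (κ := s) (fun n j => u n j.1.1) (fun n j => u n j.1.2) ?_ ?_
  · intro n
    have := congrArg (u n) hf
    simp only [map_sum, Algebra.TensorProduct.lmul'_apply_tmul, map_mul, map_zero] at this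
    rw [← this]
    exact Finset.sum_coe_sort s (fun x => u n x.1 * u n x.2)
  · intro n m hnm
    have := h1 n m hnm
    simp only [map_sum, Algebra.TensorProduct.productMap_apply_tmul] at this
    rw [← this]
    exact Finset.sum_coe_sort s (fun x => u n x.1 * u m x.2)

/-- The points `u n ⊗ u m`. -/
def pairPt {Z A k ι : Type*} [CommRing Z] [CommRing A] [Field k] [Algebra Z A] [Algebra Z k]
    (u : ι → A →ₐ[Z] k) (n m : ι) : PrimeSpectrum (A ⊗[Z] A) :=
  PrimeSpectrum.comap (Algebra.TensorProduct.productMap (u n) (u m)).toRingHom ⊥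

/-- The closure of the set of the points `u n ⊗ u m`, `n ≠ m`, meets the diagonal. -/
theorem exists_diag_mem_closure {Z A k ι : Type*} [CommRing Z] [CommRing A] [Field k] [Algebra Z A] [Algebra Z k]
    [Infinite ι] (u : ι → A →ₐ[Z] k) :
    ∃ x : PrimeSpectrum A, PrimeSpectrum.comap (Algebra.TensorProduct.lmul' (S := A) Z).toRingHom x ∈
      closure {z | ∃ n m, n ≠ m ∧ z = pairPt u n m} := by
  by_contra hcon
  push Not at hcon
  set C := {z | ∃ n m, n ≠ m ∧ z = pairPt u n m} with hC
  set I := RingHom.ker (Algebra.TensorProduct.lmul' (S := A) Z).toRingHom with hI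
  have hsurj : Function.Surjective (Algebra.TensorProduct.lmul' (S := A) Z).toRingHom := fun a =>
    ⟨a ⊗ₜ 1, by simp⟩
  have h1 : PrimeSpectrum.zeroLocus (PrimeSpectrum.vanishingIdeal C : Set (A ⊗[Z] A)) ∩
      PrimeSpectrum.zeroLocus (I : Set (A ⊗[Z] A)) = ∅ := by
    rw [PrimeSpectrum.zeroLocus_vanishingIdeal_eq_closure, ← range_comap_of_surjective _ _ hsurj]
    ext z
    simp only [Set.mem_inter_iff, Set.mem_range, Set.mem_empty_iff_false, iff_false, not_and, not_exists]
    rintro hz x rfl
    exact hcon x hz
  rw [← PrimeSpectrum.zeroLocus_sup, PrimeSpectrum.zeroLocus_empty_iff_eq_top, Ideal.eq_top_iff_one,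
    Submodule.mem_sup] at h1
  obtain ⟨g, hg, f, hf, hfg⟩ := h1
  refine ring_contradiction u f hf fun n m hnm => ?_
  have h2 : Algebra.TensorProduct.productMap (u n) (u m) g = 0 := by
    have h3 := (PrimeSpectrum.mem_vanishingIdeal _ _).1 hg (pairPt u n m) ⟨n, m, hnm, rfl⟩
    simpa [pairPt] using h3
  have h4 := congrArg (Algebra.TensorProduct.productMap (u n) (u m)) hfg
  rw [map_add, h2, zero_add, map_one] at h4
  exact h4

end K620.DiagClosure
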