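import Groth.Agent.AlgSp.K620.DiagClosure
import Mathlib.AlgebraicGeometry.Morphisms.Immersion
import Mathlib.AlgebraicGeometry.Morphisms.Etale

/-!
# Geometric form: an étale equivalence relation which is an immersion has finite fibres of geometric points
-/

set_option autoImplicit false
universe u

open CategoryTheory CategoryTheory.Limits AlgebraicGeometry TensorProduct Topology

namespace K620.DiagGeom

/-- A section of an étale morphism is an open immersion. -/
theorem isOpenImmersion_of_section {W R : Scheme.{u}} (e : W ⟶ R) (t : R ⟶ W) [Etale t] (h : e ≫ t = 𝟙 W) :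
    IsOpenImmersion e := by
  have h1 : MorphismProperty.HasOfPostcompProperty (C := Scheme.{u}) @IsOpenImmersion @Etale :=
    MorphismProperty.hasOfPostcompProperty_iff_le_diagonal.mpr fun _ _ f hf => by
      have : Etale f := hf
      exact inferInstanceAs (IsOpenImmersion (pullback.diagonal f))
  refine h1.of_postcomp e t ‹_› ?_
  rw [h]
  infer_instance

section

variable {Z : Type u} [CommRing Z] (hZ : IsTerminal (Spec (CommRingCat.of Z)))

include hZ in
/-- The map to `Spec (A ⊗ A)`, over `Spec Z` terminal, determined by two maps to `Spec A`; it is an immersion if the map to the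
fibre product over `S` is. -/
theorem exists_immersion {S : Scheme.{u}} {A : Type u} [CommRing A] [Algebra Z A] (w : Spec (CommRingCat.of A) ⟶ S)
    {R : Scheme.{u}} (t s : R ⟶ Spec (CommRingCat.of A)) (hts : t ≫ w = s ≫ w) [hq : IsImmersion (pullback.lift t s hts)] :
    ∃ j : R ⟶ Spec (CommRingCat.of (A ⊗[Z] A)), IsImmersion j ∧
      j ≫ Spec.map (CommRingCat.ofHom Algebra.TensorProduct.includeLeftRingHom) = t ∧
      j ≫ Spec.map (CommRingCat.ofHom (Algebra.TensorProduct.includeRight (R := Z) (A := A) (B := A)).toRingHom) = s := by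
  let g : S ⟶ Spec (CommRingCat.of (Z)) := hZ.from S
  have hw : w ≫ g = Spec.map (CommRingCat.ofHom (algebraMap (Z) A)) :=
    hZ.hom_ext _ _
  let z := Spec.map (CommRingCat.ofHom (algebraMap (Z) A))
  have hts' : t ≫ z = s ≫ z := hZ.hom_ext _ _
  have h1 : IsImmersion (pullback.lift t s hts') := by
    have h2 : IsImmersion (pullback.lift t s hts ≫ pullback.mapDesc w w g) := inferInstance
    have h3 : pullback.lift t s hts ≫ pullback.mapDesc w w g =
        pullback.lift t s (hZ.hom_ext _ _) := by
      apply pullback.hom_ext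
      · rw [Category.assoc, pullback.lift_fst, pullback.lift_fst, Category.comp_id, pullback.lift_fst]
      · rw [Category.assoc, pullback.lift_snd, pullback.lift_snd, Category.comp_id, pullback.lift_snd]
    rw [h3] at h2
    have h4 : ∀ (y : Spec (CommRingCat.of A) ⟶ Spec (CommRingCat.of (Z))) (hy : t ≫ y = s ≫ y),
      w ≫ g = y → IsImmersion (pullback.lift t s hy) := by
      rintro y hy rfl
      exact h2
    exact h4 z hts' hw
  refine ⟨pullback.lift t s hts' ≫ (pullbackSpecIso (Z) A A).hom, inferInstance, ?_, ?_⟩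
  · rw [Category.assoc, pullbackSpecIso_hom_fst, pullback.lift_fst]
  · rw [Category.assoc]
    exact (congrArg (pullback.lift t s hts' ≫ ·) (pullbackSpecIso_hom_snd Z A A)).trans (pullback.lift_snd _ _ _)

/-- Two maps to `Spec (A ⊗ A)` agree if their two components do. -/
theorem hom_ext_tensor {A : Type u} [CommRing A] [Algebra Z A] {T : Scheme.{u}}
    (x y : T ⟶ Spec (CommRingCat.of (A ⊗[Z] A)))
    (h1 : x ≫ Spec.map (CommRingCat.ofHom Algebra.TensorProduct.includeLeftRingHom) =
      y ≫ Spec.map (CommRingCat.ofHom Algebra.TensorProduct.includeLeftRingHom))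
    (h2 : x ≫ Spec.map (CommRingCat.ofHom (Algebra.TensorProduct.includeRight (R := Z) (A := A) (B := A)).toRingHom) =
      y ≫ Spec.map (CommRingCat.ofHom (Algebra.TensorProduct.includeRight (R := Z) (A := A) (B := A)).toRingHom)) :
    x = y := by
  rw [← cancel_mono (pullbackSpecIso (Z) A A).inv]
  apply pullback.hom_ext
  · rw [Category.assoc, Category.assoc, pullbackSpecIso_inv_fst]
    exact h1
  · rw [Category.assoc, Category.assoc, pullbackSpecIso_inv_snd]
    exact h2

include hZ in
theorem contradiction_aux {S : Scheme.{u}} {A : Type u} [CommRing A] [Algebra Z A] (w : Spec (CommRingCat.of A) ⟶ S)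
    {R : Scheme.{u}} (t s : R ⟶ Spec (CommRingCat.of A)) (hts : t ≫ w = s ≫ w) [hq : IsImmersion (pullback.lift t s hts)]
    [Etale t] (e : Spec (CommRingCat.of A) ⟶ R) (he1 : e ≫ t = 𝟙 _) (he2 : e ≫ s = 𝟙 _)
    {k : Type u} [Field k] [Algebra Z k] {ι : Type*} [Infinite ι] (v : ι → (Spec (CommRingCat.of k) ⟶ Spec (CommRingCat.of A)))
    (hv : Function.Injective v)
    (hr : ∀ n m, ∃ r : Spec (CommRingCat.of k) ⟶ R, r ≫ t = v n ∧ r ≫ s = v m) : False := by
  have he := isOpenImmersion_of_section e t he1
  obtain ⟨j, hj, hj1, hj2⟩ := exists_immersion hZ w t s hts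
  let a : ι → (A →+* k) := fun n => (Spec.preimage (v n)).hom
  have ha : ∀ n, Spec.map (CommRingCat.ofHom (a n)) = v n := fun n => Spec.map_preimage (v n)
  let b : ι → (A →ₐ[Z] k) := fun n => { a n with
    commutes' := fun z => by
      have h1 : v n ≫ Spec.map (CommRingCat.ofHom (algebraMap Z A)) =
        Spec.map (CommRingCat.ofHom (algebraMap Z k)) := hZ.hom_ext _ _
      rw [← ha n, ← Spec.map_comp] at h1
      exact congrArg (fun f => f.hom z) (Spec.map_injective h1) }
  obtain ⟨x, hx⟩ := DiagClosure.exists_diag_mem_closure b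
  have hpt : ∀ n m, ∀ r : Spec (CommRingCat.of k) ⟶ R, r ≫ t = v n → r ≫ s = v m →
      r ≫ j = Spec.map (CommRingCat.ofHom (Algebra.TensorProduct.productMap (b n) (b m)).toRingHom) := by
    intro n m r h1 h2
    apply hom_ext_tensor
    · rw [Category.assoc, hj1, h1, ← Spec.map_comp, ← ha n]
      congr 1
      ext y
      simp [b]
    · rw [Category.assoc, hj2, h2, ← Spec.map_comp, ← ha m]
      congr 1
      ext y
      simp [b]
  have hdiag : e ≫ j = Spec.map (CommRingCat.ofHom (Algebra.TensorProduct.lmul' (S := A) (Z)).toRingHom) := by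
    apply hom_ext_tensor
    · rw [Category.assoc, hj1, he1, ← Spec.map_comp, ← Spec.map_id]
      congr 1
      ext y
      simp
    · rw [Category.assoc, hj2, he2, ← Spec.map_comp, ← Spec.map_id]
      congr 1
      ext y
      simp
  have hsub : {z | ∃ n m, n ≠ m ∧ z = DiagClosure.pairPt b n m} ⊆ j '' (Set.range e)ᶜ := by
    rintro z ⟨n, m, hnm, rfl⟩
    obtain ⟨r, hr1, hr2⟩ := hr n m
    refine ⟨r (⊥ : PrimeSpectrum k), ?_, ?_⟩
    · rintro ⟨y, hy⟩
      have hrange : Set.range r ⊆ Set.range e := by
        rintro _ ⟨q, rfl⟩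
        have : q = (⊥ : PrimeSpectrum k) := Subsingleton.elim (α := PrimeSpectrum k) _ _
        exact ⟨y, by rw [hy, this]⟩
      have hl := IsOpenImmersion.lift_fac e r hrange
      have h1 : IsOpenImmersion.lift e r hrange = v n := by
        have := congrArg (· ≫ t) hl
        rwa [Category.assoc, he1, Category.comp_id, hr1] at this
      have h2 : IsOpenImmersion.lift e r hrange = v m := by
        have := congrArg (· ≫ s) hl
        rwa [Category.assoc, he2, Category.comp_id, hr2] at this
      exact hnm (hv (h1.symm.trans h2))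
    · have := hpt n m r hr1 hr2
      exact (Scheme.Hom.comp_apply r j _).symm.trans
        (congrArg (fun f : Spec (CommRingCat.of k) ⟶ Spec (CommRingCat.of (A ⊗[Z] A)) => f (⊥ : PrimeSpectrum k)) this)
  have hx' : j (e x) ∈ closure (j '' (Set.range e)ᶜ) := by
    refine closure_mono hsub ?_
    have h7 : j (e x) = PrimeSpectrum.comap (Algebra.TensorProduct.lmul' (S := A) Z).toRingHom x :=
      (Scheme.Hom.comp_apply e j _).symm.trans
        (congrArg (fun f : Spec (CommRingCat.of A) ⟶ Spec (CommRingCat.of (A ⊗[Z] A)) => f x) hdiag)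
    rw [h7]
    exact hx
  have h5 : e x ∈ closure ((Set.range e)ᶜ) := by
    rw [(Scheme.Hom.isEmbedding j).closure_eq_preimage_closure_image]
    exact hx'
  have h6 : IsClosed ((Set.range e)ᶜ) := isClosed_compl_iff.2 e.isOpenEmbedding.isOpen_range
  rw [h6.closure_eq] at h5
  exact h5 ⟨x, rfl⟩

end

attribute [local instance] ULift.algebra'

/-- Let `t, s : R ⟶ W = Spec A` be an étale relation over `S` with `R ⟶ W ×_S W` an immersion, containing the diagonal.
Then there cannot be infinitely many distinct `k`-points of `W` that are pairwise related. -/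
theorem contradiction {S : Scheme.{u}} {A : Type u} [CommRing A] (w : Spec (CommRingCat.of A) ⟶ S)
    {R : Scheme.{u}} (t s : R ⟶ Spec (CommRingCat.of A)) (hts : t ≫ w = s ≫ w) (hq : IsImmersion (pullback.lift t s hts))
    [Etale t] (e : Spec (CommRingCat.of A) ⟶ R) (he1 : e ≫ t = 𝟙 _) (he2 : e ≫ s = 𝟙 _)
    {k : Type u} [Field k] {ι : Type*} [Infinite ι] (v : ι → (Spec (CommRingCat.of k) ⟶ Spec (CommRingCat.of A)))
    (hv : Function.Injective v)
    (hr : ∀ n m, ∃ r : Spec (CommRingCat.of k) ⟶ R, r ≫ t = v n ∧ r ≫ s = v m) : False :=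
  contradiction_aux specULiftZIsTerminal w t s hts e he1 he2 v hv hr

/-- The same for any affine scheme `W`. -/
theorem contradiction' {S W : Scheme.{u}} [IsAffine W] (w : W ⟶ S)
    {R : Scheme.{u}} (t s : R ⟶ W) (hts : t ≫ w = s ≫ w) (hq : IsImmersion (pullback.lift t s hts))
    [Etale t] (e : W ⟶ R) (he1 : e ≫ t = 𝟙 _) (he2 : e ≫ s = 𝟙 _)
    {k : Type u} [Field k] {ι : Type*} [Infinite ι] (v : ι → (Spec (CommRingCat.of k) ⟶ W))
    (hv : Function.Injective v)
    (hr : ∀ n m, ∃ r : Spec (CommRingCat.of k) ⟶ R, r ≫ t = v n ∧ r ≫ s = v m) : False := by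
  have hts' : (t ≫ W.isoSpec.hom) ≫ (W.isoSpec.inv ≫ w) = (s ≫ W.isoSpec.hom) ≫ (W.isoSpec.inv ≫ w) := by
    simpa using hts
  have hq' : IsImmersion (pullback.lift (t ≫ W.isoSpec.hom) (s ≫ W.isoSpec.hom) hts') := by
    have h1 : pullback.lift t s hts ≫ pullback.map w w (W.isoSpec.inv ≫ w) (W.isoSpec.inv ≫ w)
        W.isoSpec.hom W.isoSpec.hom (𝟙 S) (by simp) (by simp) =
        pullback.lift (t ≫ W.isoSpec.hom) (s ≫ W.isoSpec.hom) hts' := by
      apply pullback.hom_ext
      · rw [Category.assoc, pullback.lift_fst, pullback.lift_fst, pullback.lift_fst_assoc]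
      · rw [Category.assoc, pullback.lift_snd, pullback.lift_snd, pullback.lift_snd_assoc]
    rw [← h1]
    infer_instance
  refine contradiction (A := Γ(W, ⊤)) (W.isoSpec.inv ≫ w) (t ≫ W.isoSpec.hom) (s ≫ W.isoSpec.hom) hts' hq'
    (W.isoSpec.inv ≫ e) (by simp [reassoc_of% he1]) (by simp [reassoc_of% he2])
    (fun n => v n ≫ W.isoSpec.hom) (fun n m h => hv (by simpa using h)) fun n m => ?_
  obtain ⟨r, hr1, hr2⟩ := hr n m
  exact ⟨r, by rw [← hr1, Category.assoc], by rw [← hr2, Category.assoc]⟩

end K620.DiagGeom
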