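import Groth.Agent.AlgSp.K618.FieldFib
import Groth.Agent.AlgSp.K619.EtField
import Groth.Agent.AlgSp.K621.Decent
import Groth.Agent.AlgSp.K620.Dec

/-!
# The fibre over a point represented by a quasi-compact monomorphism from the spectrum of a field

* `isPreimmersion_of_discrete` : a quasi-compact monomorphism `E ⟶ V` with `E` discrete, field-valued stalks and no
  specializations in the image is a preimmersion.
* `isPreimmersion_fibre` : the fibre `Spec k ×_Y V ⟶ V` of an étale chart over a quasi-compact mono point.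
* `isEmbedding_of_charts` : topological embeddings of point spaces are detected on étale charts.
* `isEmbedding_fibre`, `range_fibre`.
-/

set_option autoImplicit false
universe u
open CategoryTheory CategoryTheory.Limits AlgebraicGeometry Opposite Topology
open AlgSp

namespace K620.FibTop

variable {S : Scheme.{u}}

theorem isPreimmersion_of_discrete {E V : Scheme.{u}} (i : E ⟶ V) [Mono i] [QuasiCompact i]
    [DiscreteTopology ↥E] (hf : ∀ e : ↥E, IsField (E.presheaf.stalk e))
    (hs : ∀ e e' : ↥E, i e ⤳ i e' → e = e') : IsPreimmersion i := by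
  have hst : SurjectiveOnStalks i := by
    refine ⟨fun e => ?_⟩
    -- the residue field map is an isomorphism
    have h1 : Mono (Spec.map (i.residueFieldMap e)) := by
      have h2 : Mono (Spec.map (i.residueFieldMap e) ≫ V.fromSpecResidueField (i e)) := by
        rw [Scheme.Hom.SpecMap_residueFieldMap_fromSpecResidueField]
        infer_instance
      exact mono_of_mono _ (V.fromSpecResidueField (i e))
    have h2 : IsIso (Spec.map (i.residueFieldMap e)) :=
      K618.Sch.isIso_of_mono_to_field (k := V.residueField (i e)) _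
    have h4 : Function.Surjective (i.residueFieldMap e).hom := (isIso_SpecMap_iff.1 h2).2
    have h5 : Function.Injective (E.residue e).hom := by
      let _ := (hf e).toField
      exact RingHom.injective _
    intro x
    obtain ⟨y, hy⟩ := h4 ((E.residue e).hom x)
    obtain ⟨z, rfl⟩ := Scheme.residue_surjective V (i e) y
    refine ⟨z, h5 ?_⟩
    rw [← hy]
    have h6 := Scheme.residue_residueFieldMap i e
    have h7 := congrArg (fun φ => φ.hom z) h6
    exact h7.symm
  have hinj : Function.Injective i := fun a b h => hs a b (by rw [h])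
  refine { toSurjectiveOnStalks := hst, isEmbedding := ⟨?_, hinj⟩ }
  rw [isInducing_iff_nhds]
  intro e
  rw [nhds_discrete]
  refine le_antisymm (by
    rw [← Filter.map_le_iff_le_comap, Filter.map_pure]
    exact pure_le_nhds _) ?_
  obtain ⟨W, hW, hu', -⟩ := exists_isAffineOpen_mem_and_subset (x := i e) (U := ⊤) trivial
  have hc : IsCompact (i ⁻¹' (W : Set ↥V)) := QuasiCompact.isCompact_preimage _ W.isOpen hW.isCompact
  have hfin : (i ⁻¹' (W : Set ↥V)).Finite := hc.finite_of_discrete
  have hfin' : ((i ⁻¹' (W : Set ↥V)) \ {e}).Finite := hfin.subset Set.sdiff_subset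
  have hC : IsClosed (⋃ e' ∈ (i ⁻¹' (W : Set ↥V)) \ {e}, closure {i e'}) :=
    hfin'.isClosed_biUnion fun _ _ => isClosed_closure
  have hO : IsOpen ((W : Set ↥V) ∩ (⋃ e' ∈ (i ⁻¹' (W : Set ↥V)) \ {e}, closure {i e'})ᶜ) :=
    W.isOpen.inter hC.isOpen_compl
  have heO : i e ∈ ((W : Set ↥V) ∩ (⋃ e' ∈ (i ⁻¹' (W : Set ↥V)) \ {e}, closure {i e'})ᶜ) := by
    refine ⟨hu', fun h => ?_⟩
    obtain ⟨e', he', h'⟩ := Set.mem_iUnion₂.1 h
    exact he'.2 (hs _ _ (specializes_iff_mem_closure.2 h'))
  intro s hs'
  refine Filter.mem_comap.2 ⟨_, hO.mem_nhds heO, ?_⟩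
  rintro e' ⟨h1, h2⟩
  by_contra h3
  refine h2 (Set.mem_iUnion₂.2 ⟨e', ⟨h1, fun h4 => ?_⟩, subset_closure rfl⟩)
  rw [Set.mem_singleton_iff] at h4
  subst h4
  exact h3 (Filter.mem_pure.1 hs')

/-- The fibre of an étale chart over a point represented by a quasi-compact monomorphism from the spectrum of a field
is a preimmersion. -/
theorem isPreimmersion_fibre {Y : Sp S} (hY : IsAlgSpace Y) (r : FieldPt Y) (hm : Mono r.toHom)
    (hq : RepWith @QuasiCompact r.toHom) {V E : Over S} {b : (yon S).obj V ⟶ Y} (hb : RepWith @Etale b)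
    {e : E ⟶ r.pt} {i : E ⟶ V} (sq : IsPullback ((yon S).map e) ((yon S).map i) r.toHom b) :
    IsPreimmersion i.left := by
  have he : Etale e.left := hb.2 _ _ e sq.flip
  have hi : QuasiCompact i.left := hq.2 b _ i sq
  have hmi : Mono i.left := K618.FieldFib.mono_left_of_isPullback sq
  have hd : DiscreteTopology ↥E.left := K618.Sch.discreteTopology_of_etale_field (k := r.K) e.left
  refine isPreimmersion_of_discrete i.left
    (fun w => K619.EtField.isField_stalk_of_etale (K := r.K) e.left w) ?_
  intro w w' hw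
  have h1 : ∀ w : ↥E.left, Points.ofPt b (i.left w) = Points.mk r := by
    intro w
    have h2 := Points.ofPt_toHom r (e.left w)
    rw [← h2]
    have h3 := (K609.Points.ofPt_eq_ofPt_iff sq (e.left w) (i.left w)).2 ⟨w, rfl, rfl⟩
    exact h3.symm
  have hinj : Function.Injective i.left := i.left.injective
  refine hinj (K621.Decent.eq_of_specializes hY hb hw ((h1 w).trans (h1 w').symm) ?_)
  rw [h1]
  exact K621.Decent.QCPoint.finFibres ⟨r, rfl, hq⟩

/-- A monomorphism is a topological embedding on points if this holds locally on étale charts of the target. -/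
theorem isEmbedding_of_charts {X F : Sp S} (i : F ⟶ X) [Mono i]
    (h : ∀ z : Points F, ∃ (U E : Over S) (a : (yon S).obj U ⟶ X) (fst : (yon S).obj E ⟶ F) (j : E ⟶ U) (u : ↥U.left),
      RepWith @Etale a ∧ IsPullback fst ((yon S).map j) i a ∧ Points.ofPt a u = Points.map i z ∧
      IsEmbedding j.left) : IsEmbedding (Points.map i) := by
  have hinj : Function.Injective (Points.map i) := K620.Dec.injective_map_of_mono i inferInstance
  refine ⟨?_, hinj⟩
  rw [isInducing_iff_nhds]
  intro z
  refine le_antisymm ((Points.continuous_map i).tendsto z).le_comap ?_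
  intro A hA
  obtain ⟨A', hA'A, hA', hzA'⟩ := mem_nhds_iff.1 hA
  obtain ⟨U, E, a, fst, j, u, ha, sq, hu, hj⟩ := h z
  obtain ⟨O, hO, hOA⟩ := hj.isOpen_iff.1 (hA'.preimage (Points.continuous_ofPt fst))
  -- points of `E` over a pair
  have key : ∀ (z' : Points F) (u' : ↥U.left), Points.ofPt a u' = Points.map i z' →
      ∃ w : ↥E.left, Points.ofPt fst w = z' ∧ j.left w = u' := by
    intro z' u' hzu
    obtain ⟨t, ht1, ht2⟩ := K609.Points.exists_of_isPullback sq z' (Points.ofScheme U u') (by
      rw [← Points.ofPt_eq_map_ofScheme, hzu])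
    obtain ⟨w, rfl⟩ := K609.Points.ofScheme_surjective E t
    refine ⟨w, ?_, ?_⟩
    · rw [Points.ofPt_eq_map_ofScheme]; exact ht1
    · rw [K609.Points.map_yon_map_ofScheme] at ht2
      exact K609.Points.ofScheme_injective _ ht2
  refine Filter.mem_comap.2 ⟨Points.ofPt a '' O, ?_, ?_⟩
  · refine (K609.Points.isOpenMap_ofPt ha O hO).mem_nhds ?_
    obtain ⟨w, hw1, hw2⟩ := key z u hu
    refine ⟨u, ?_, hu⟩
    have : w ∈ j.left ⁻¹' O := by
      rw [hOA]
      exact (show Points.ofPt fst w ∈ A' by rw [hw1]; exact hzA')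
    rw [← hw2]
    exact this
  · rintro z' ⟨u', hu', hz'⟩
    obtain ⟨w, hw1, hw2⟩ := key z' u' hz'
    apply hA'A
    have : w ∈ j.left ⁻¹' O := by
      show j.left w ∈ O
      rw [hw2]
      exact hu'
    rw [hOA] at this
    rw [← hw1]
    exact this

/-- The fibre over a quasi-compact mono point embeds. -/
theorem isEmbedding_fibre {X Y Xk : Sp S} (hX : IsAlgSpace X) (hY : IsAlgSpace Y) (f : X ⟶ Y)
    (r : FieldPt Y) (hm : Mono r.toHom) (hq : RepWith @QuasiCompact r.toHom)
    {fst : Xk ⟶ X} {snd : Xk ⟶ (yon S).obj r.pt} (hsq : IsPullback fst snd f r.toHom) :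
    IsEmbedding (Points.map fst) := by
  have : Mono fst := MorphismProperty.of_isPullback (P := MorphismProperty.monomorphisms (Sp S)) hsq.flip hm
  refine isEmbedding_of_charts fst fun z => ?_
  obtain ⟨V, b, v, hb, -, hv⟩ := K618.FieldFib.exists_chart_point hY (Points.map f (Points.map fst z))
  obtain ⟨U, a, g, u, ha, hag, hu, -⟩ := K618.FieldFib.exists_chart_diagram hX f b hb v (Points.map fst z) hv.symm
  obtain ⟨E, e, i, -, -, sqE, -⟩ := K618.FieldFib.exists_fibre_scheme_etale r hq b hb
  have hpre : IsPreimmersion i.left := isPreimmersion_fibre hY r hm hq hb sqE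
  -- the base change of `E` to `U`
  let P : Over S := pullback i g
  let p1 : P ⟶ E := pullback.fst i g
  let p2 : P ⟶ U := pullback.snd i g
  have sqP : IsPullback p1 p2 i g := IsPullback.of_hasPullback i g
  have sqP' : IsPullback ((yon S).map p1) ((yon S).map p2) ((yon S).map i) ((yon S).map g) := sqP.map (yon S)
  have sq1 : IsPullback ((yon S).map p1 ≫ (yon S).map e) ((yon S).map p2) r.toHom (a ≫ f) := by
    rw [hag]
    exact (sqP'.flip.paste_vert sqE.flip).flip
  have hw : (((yon S).map p2) ≫ a) ≫ f = ((yon S).map p1 ≫ (yon S).map e) ≫ r.toHom := by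
    rw [Category.assoc]; exact sq1.w.symm
  let c : (yon S).obj P ⟶ Xk := hsq.lift ((yon S).map p2 ≫ a) ((yon S).map p1 ≫ (yon S).map e) hw
  have hc1 : c ≫ fst = (yon S).map p2 ≫ a := hsq.lift_fst _ _ _
  have hc2 : c ≫ snd = (yon S).map p1 ≫ (yon S).map e := hsq.lift_snd _ _ _
  have sq2 : IsPullback c ((yon S).map p2) fst a := by
    refine IsPullback.of_right (h₁₁ := c) (h₁₂ := snd) (h₂₁ := a) (h₂₂ := f) ?_ hc1.symm.symm hsq.flip
    rw [hc2]
    exact sq1
  refine ⟨U, P, a, c, p2, u, ha, sq2, hu, ?_⟩
  have hsqL : IsPullback p1.left p2.left i.left g.left := sqP.map (Over.forget S)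
  have : IsPreimmersion p2.left :=
    MorphismProperty.of_isPullback (P := @IsPreimmersion) hsqL hpre
  exact this.isEmbedding

theorem range_fibre {X Y Xk : Sp S} (f : X ⟶ Y) (r : FieldPt Y)
    {fst : Xk ⟶ X} {snd : Xk ⟶ (yon S).obj r.pt} (hsq : IsPullback fst snd f r.toHom) :
    Set.range (Points.map fst) = Points.map f ⁻¹' {Points.mk r} := by
  ext x
  constructor
  · rintro ⟨z, rfl⟩
    obtain ⟨s, hs⟩ := K609.Points.ofScheme_surjective _ (Points.map snd z)
    have h1 : Points.map f (Points.map fst z) = Points.map r.toHom (Points.map snd z) := by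
      rw [← Points.map_comp, ← Points.map_comp, hsq.w]
    show Points.map f (Points.map fst z) = Points.mk r
    rw [h1, ← hs, ← Points.ofPt_eq_map_ofScheme]
    exact Points.ofPt_toHom r s
  · intro hx
    obtain ⟨z, hz, -⟩ := K609.Points.exists_of_isPullback hsq x
      (Points.ofScheme r.pt (IsLocalRing.closedPoint r.K : ↥(Spec (CommRingCat.of r.K)))) (by
        rw [← Points.ofPt_eq_map_ofScheme]
        exact (show Points.map f x = Points.mk r from hx).trans (Points.ofPt_toHom r _).symm)
    exact ⟨z, hz⟩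

end K620.FibTop
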