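import Groth.Agent.AlgSp.K620.Dec
import Groth.Agent.AlgSp.K618.FieldFib

/-!
# Finiteness of the set of points of a fibre product over two given points
-/

set_option autoImplicit false
universe u
open CategoryTheory CategoryTheory.Limits AlgebraicGeometry Opposite Topology
open AlgSp

namespace K620.FinPts

variable {S : Scheme.{u}}

/-- Shrinking of a chart diagram to affine schemes around a point, inside a given open. -/
theorem exists_affine_shrink {F G : Sp S} {f : F ⟶ G} {U V : Over S} {a : (yon S).obj U ⟶ F}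
    {b : (yon S).obj V ⟶ G} {h : U ⟶ V} (ha : RepWith @Etale a) (hb : RepWith @Etale b)
    (w : a ≫ f = (yon S).map h ≫ b) (u : ↥U.left) (W : U.left.Opens) (hu : u ∈ W) :
    ∃ (U' V' : Over S) (a' : (yon S).obj U' ⟶ F) (b' : (yon S).obj V' ⟶ G) (h' : U' ⟶ V') (u' : ↥U'.left)
      (j : U' ⟶ U) (k : V' ⟶ V),
      IsAffine U'.left ∧ IsAffine V'.left ∧ RepWith @Etale a' ∧ RepWith @Etale b' ∧
      a' ≫ f = (yon S).map h' ≫ b' ∧ Points.ofPt a' u' = Points.ofPt a u ∧ h' ≫ k = j ≫ h ∧
      IsOpenImmersion j.left ∧ IsOpenImmersion k.left ∧ j.left u' = u ∧ (yon S).map j ≫ a = a' ∧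
      (yon S).map k ≫ b = b' ∧ Set.range j.left ⊆ W := by
  obtain ⟨V0, hV0, hv, -⟩ := exists_isAffineOpen_mem_and_subset (x := h.left u) (U := ⊤) trivial
  obtain ⟨U0, hU0, hu0, hsub⟩ := exists_isAffineOpen_mem_and_subset (x := u)
    (U := W ⊓ h.left ⁻¹ᵁ V0) ⟨hu, hv⟩
  have hle : U0 ≤ h.left ⁻¹ᵁ V0 := fun x hx => (hsub hx).2
  let V' : Over S := Over.mk (V0.ι ≫ V.hom)
  let U' : Over S := Over.mk (U0.ι ≫ U.hom)
  let k : V' ⟶ V := Over.homMk V0.ι rfl
  let j : U' ⟶ U := Over.homMk U0.ι rfl
  let h' : U' ⟶ V' := Over.homMk (h.left.resLE V0 U0 hle) (by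
    change h.left.resLE V0 U0 hle ≫ V0.ι ≫ V.hom = U0.ι ≫ U.hom
    rw [Scheme.Hom.resLE_comp_ι_assoc, Over.w])
  have hk : h' ≫ k = j ≫ h := by
    ext1
    exact Scheme.Hom.resLE_comp_ι h.left hle
  refine ⟨U', V', (yon S).map j ≫ a, (yon S).map k ≫ b, h', ⟨u, hu0⟩, j, k, hU0, hV0,
    K618.FieldFib.repWith_etale_restrict ha U0, K618.FieldFib.repWith_etale_restrict hb V0, ?_, ?_, hk,
    inferInstanceAs (IsOpenImmersion U0.ι), inferInstanceAs (IsOpenImmersion V0.ι), rfl, rfl, rfl, ?_⟩
  · rw [Category.assoc, w, ← Category.assoc, ← Category.assoc, ← Functor.map_comp, ← Functor.map_comp, hk]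
  · rw [K609.Points.ofPt_yon_map_comp]
    rfl
  · rintro _ ⟨x, rfl⟩
    exact (hsub x.2).1

theorem finite_points {X Y Z W : Sp S} (hY : IsAlgSpace Y) (f : X ⟶ Y) (g : Z ⟶ Y) (p : W ⟶ X) (q : W ⟶ Z)
    (hW : IsPullback p q f g) (x : Points X) (z : Points Z) (hxz : Points.map f x = Points.map g z)
    (r : FieldPt Y) (hr : Points.mk r = Points.map g z) (hm : Mono r.toHom)
    {U V : Over S} {a : (yon S).obj U ⟶ Z} {b : (yon S).obj V ⟶ Y} {h : U ⟶ V}
    [IsAffine U.left] [IsAffine V.left] (hb : RepWith @Etale b) (w : a ≫ g = (yon S).map h ≫ b)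
    (hqf : LocallyQuasiFinite h.left) (u : ↥U.left) (hu : Points.ofPt a u = z) :
    {t : Points W | Points.map p t = x ∧ Points.map q t = z}.Finite := by
  obtain ⟨l, hl⟩ := Quotient.exists_rep x
  change Points.mk l = x at hl
  have hrr : Representable r.toHom := hY.representable_from_yon r.toHom
  obtain ⟨c, hc⟩ := K618.FieldFib.factors_of_mono r (l.map f) hm hrr (by
    rw [← Points.map_mk, hl, hxz, hr])
  rw [FieldPt.toHom_map] at hc
  obtain ⟨E, e, i, sqE, hE⟩ := K618.FieldFib.exists_fibre_scheme r hrr b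
  have hmi : Mono i.left := K618.FieldFib.mono_left_of_isPullback sqE
  have he : Etale e.left := hb.2 _ _ e sqE.flip
  -- the base change of `E` to `U`
  let E' : Over S := pullback i h
  let p1 : E' ⟶ E := pullback.fst i h
  let p2 : E' ⟶ U := pullback.snd i h
  have sqE' : IsPullback p1 p2 i h := IsPullback.of_hasPullback i h
  have hE'1 : LocallyQuasiFinite p1.left :=
    MorphismProperty.of_isPullback (P := @LocallyQuasiFinite) (sqE'.map (Over.forget S)).flip hqf
  have hE'q : QuasiCompact p1.left :=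
    MorphismProperty.of_isPullback (P := @QuasiCompact) (sqE'.map (Over.forget S)).flip
      (inferInstanceAs (QuasiCompact h.left))
  have hel : LocallyQuasiFinite e.left := K618.Sch.locallyQuasiFinite_of_etale e.left
  have hE'2 : LocallyQuasiFinite (p1 ≫ e).left := by
    rw [Over.comp_left]; infer_instance
  have sq1 : IsPullback ((yon S).map (p1 ≫ e)) ((yon S).map p2) r.toHom (a ≫ g) := by
    rw [w, Functor.map_comp]
    exact ((sqE'.map (yon S)).flip.paste_vert sqE.flip).flip
  -- `T = Spec L ×_Y U`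
  let T : Over S := pullback c (p1 ≫ e)
  let t1 : T ⟶ l.pt := pullback.fst c (p1 ≫ e)
  let t2 : T ⟶ E' := pullback.snd c (p1 ≫ e)
  have sqT : IsPullback t1 t2 c (p1 ≫ e) := IsPullback.of_hasPullback c (p1 ≫ e)
  have sqTL : IsPullback t1.left t2.left c.left (p1 ≫ e).left := sqT.map (Over.forget S)
  have hT1 : LocallyQuasiFinite t1.left :=
    MorphismProperty.of_isPullback (P := @LocallyQuasiFinite) sqTL.flip hE'2
  have hcq : QuasiCompact c.left := by
    have : IsAffine (FieldPt.map f l).pt.left := inferInstanceAs (IsAffine (Spec (CommRingCat.of l.K)))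
    have : IsAffine r.pt.left := inferInstanceAs (IsAffine (Spec (CommRingCat.of r.K)))
    have : IsAffineHom c.left := isAffineHom_of_isAffine c.left
    infer_instance
  have hT2 : QuasiCompact t2.left := MorphismProperty.of_isPullback (P := @QuasiCompact) sqTL hcq
  have hTd : DiscreteTopology ↥T.left := K618.Sch.discreteTopology_of_lqf_field (k := l.K) t1.left
  have hEd : DiscreteTopology ↥E.left := K618.Sch.discreteTopology_of_etale_field (k := r.K) e.left
  have sqT' : IsPullback ((yon S).map t1) ((yon S).map (t2 ≫ p2)) (l.toHom ≫ f) (a ≫ g) := by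
    rw [← hc, Functor.map_comp]
    exact ((sqT.map (yon S)).paste_vert sq1 : IsPullback _ _ _ _).flip.flip
  -- the map `T ⟶ W`
  let m : (yon S).obj T ⟶ W := hW.lift ((yon S).map t1 ≫ l.toHom) ((yon S).map (t2 ≫ p2) ≫ a) (by
    rw [Category.assoc, Category.assoc]; exact sqT'.w)
  have hm1 : m ≫ p = (yon S).map t1 ≫ l.toHom := hW.lift_fst _ _ _
  have hm2 : m ≫ q = (yon S).map (t2 ≫ p2) ≫ a := hW.lift_snd _ _ _
  -- points of `W` over `(x, z)` come from points of `T` over `u`
  have key : ∀ t : Points W, Points.map p t = x → Points.map q t = z →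
      ∃ s : ↥T.left, Points.ofPt m s = t ∧ (t2 ≫ p2).left s = u := by
    intro t ht1 ht2
    -- `W' = Spec L ×_X W`
    have hP : IsPullback (pullback.fst l.toHom p) (pullback.snd l.toHom p) l.toHom p := IsPullback.of_hasPullback _ _
    let n : (yon S).obj T ⟶ pullback l.toHom p := hP.lift ((yon S).map t1) m hm1.symm
    have hn1 : n ≫ pullback.fst l.toHom p = (yon S).map t1 := hP.lift_fst _ _ _
    have hn2 : n ≫ pullback.snd l.toHom p = m := hP.lift_snd _ _ _
    have sq2 : IsPullback (pullback.fst l.toHom p) (pullback.snd l.toHom p ≫ q) (l.toHom ≫ f) g :=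
      (hP.flip.paste_horiz hW.flip).flip
    have sq3 : IsPullback n ((yon S).map (t2 ≫ p2)) (pullback.snd l.toHom p ≫ q) a := by
      refine IsPullback.of_right (h₁₂ := pullback.fst l.toHom p) (h₂₂ := g) ?_ ?_ sq2
      · rw [hn1]; exact sqT'
      · rw [← Category.assoc, hn2, hm2]
    obtain ⟨t', ht'1, ht'2⟩ := K609.Points.exists_of_isPullback hP
      (Points.ofScheme l.pt (IsLocalRing.closedPoint l.K : ↥(Spec (CommRingCat.of l.K)))) t (by
        rw [← Points.ofPt_eq_map_ofScheme, ht1, ← hl]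
        exact Points.ofPt_toHom l _)
    obtain ⟨s', hs'1, hs'2⟩ := K609.Points.exists_of_isPullback sq3 t' (Points.ofScheme U u) (by
      rw [← Points.ofPt_eq_map_ofScheme, hu, Points.map_comp, ht'2, ht2])
    obtain ⟨s, rfl⟩ := K609.Points.ofScheme_surjective T s'
    refine ⟨s, ?_, ?_⟩
    · rw [Points.ofPt_eq_map_ofScheme, ← hn2, Points.map_comp, hs'1, ht'2]
    · rw [K609.Points.map_yon_map_ofScheme] at hs'2
      exact K609.Points.ofScheme_injective _ hs'2
  -- points of `T` over `u` are finite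
  have hfin : {s : ↥T.left | (t2 ≫ p2).left s = u}.Finite := by
    by_cases hne : ∃ s0 : ↥T.left, (t2 ≫ p2).left s0 = u
    · obtain ⟨s0, hs0⟩ := hne
      have hTq : QuasiCompact (t2 ≫ p1).left := by rw [Over.comp_left]; infer_instance
      have hc1 : IsCompact ((t2 ≫ p1).left ⁻¹' {(t2 ≫ p1).left s0}) :=
        QuasiCompact.isCompact_preimage _ (isOpen_discrete _) isCompact_singleton
      refine hc1.finite_of_discrete.subset ?_
      intro s hs
      have hinj : Function.Injective i.left := i.left.injective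
      refine hinj ?_
      have h1 : (t2 ≫ p1) ≫ i = (t2 ≫ p2) ≫ h := by
        rw [Category.assoc, Category.assoc, sqE'.w]
      have h2 : ∀ s : ↥T.left, i.left ((t2 ≫ p1).left s) = h.left ((t2 ≫ p2).left s) := by
        intro s
        rw [← Scheme.Hom.comp_apply, ← Scheme.Hom.comp_apply, ← Over.comp_left, ← Over.comp_left, h1]
      rw [h2, h2, hs0, hs]
    · push Not at hne
      convert Set.finite_empty
      ext s
      simpa using hne s
  refine (hfin.image (Points.ofPt m)).subset ?_
  rintro t ⟨ht1, ht2⟩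
  obtain ⟨s, hs1, hs2⟩ := key t ht1 ht2
  exact ⟨s, hs2, hs1⟩

/-- The set of points of `X ×_Y Z` over a point `x` of `X` and a point `z` of `Z` is finite, if their image in `Y` is
represented by a monomorphism from the spectrum of a field and `Z ⟶ Y` is quasi-finite at `z`. -/
theorem finite_points_of_hasAtMor {X Y Z W : Sp S} (hY : IsAlgSpace Y) (f : X ⟶ Y) (g : Z ⟶ Y) (p : W ⟶ X)
    (q : W ⟶ Z) (hW : IsPullback p q f g) (x : Points X) (z : Points Z) (hxz : Points.map f x = Points.map g z)
    (hy : ∃ r : FieldPt Y, Points.mk r = Points.map g z ∧ Mono r.toHom)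
    (hg : HasAtMor (fun U _ h u => ∃ W : U.Opens, u ∈ W ∧ LocallyQuasiFinite (W.ι ≫ h) ∧
      LocallyOfFiniteType (W.ι ≫ h)) g z) :
    {t : Points W | Points.map p t = x ∧ Points.map q t = z}.Finite := by
  obtain ⟨r, hr, hm⟩ := hy
  obtain ⟨U, V, a, b, h, u, ha, hb, w, hu, O, huO, hO, -⟩ := hg
  obtain ⟨U', V', a', b', h', u', j, k, hU', hV', ha', hb', w', hu', hjk, hj, hk, hju, -, -, hjO⟩ :=
    exists_affine_shrink ha hb w u O huO
  refine finite_points hY f g p q hW x z hxz r hr hm hb' w' ?_ u' (hu'.trans hu)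
  have h1 : LocallyQuasiFinite (h'.left ≫ k.left) := by
    rw [← Over.comp_left, hjk, Over.comp_left]
    have h2 : j.left = IsOpenImmersion.lift O.ι j.left (by simpa using hjO) ≫ O.ι :=
      (IsOpenImmersion.lift_fac _ _ _).symm
    have h3 : IsOpenImmersion (IsOpenImmersion.lift O.ι j.left (by simpa using hjO)) :=
      IsOpenImmersion.of_comp (IsOpenImmersion.lift O.ι j.left (by simpa using hjO)) O.ι
    rw [h2, Category.assoc]
    infer_instance
  exact LocallyQuasiFinite.of_comp h'.left k.left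

end K620.FinPts
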