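import Groth.Agent.AlgSp.K615.RelNorm
import Groth.Agent.AlgSp.K617.FinLoc
import Groth.Agent.AlgSp.K596.QC
import Groth.Agent.AlgSp.K596.Mono
import Groth.Agent.AlgSp.K595.DiagBasic

/-!
# Integral morphisms extend over quasi-compact open immersions
-/

set_option autoImplicit false
universe u
open CategoryTheory CategoryTheory.Limits AlgebraicGeometry Opposite
open AlgSp

namespace K620.IntExt

variable {S : Scheme.{u}}

theorem isRelNormalization_self {X Y : Sp S} {f : X ⟶ Y} (hf : IsIntegralMor f) :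
    IsRelNormalization f f (𝟙 X) := by
  refine ⟨Category.id_comp _, hf, ?_⟩
  intro Z _ π g _ hg
  exact ⟨g, ⟨Category.id_comp _, hg⟩, fun h hh => by rw [← hh.1, Category.id_comp]⟩

theorem exists_integral_extension {V Y Z : Sp S} (hV : IsAlgSpace V) (hY : IsAlgSpace Y) (hZ : IsAlgSpace Z)
    (j : V ⟶ Y) (hj : RepWith @IsOpenImmersion j) (hjq : IsQuasiCompactMor j) (π : Z ⟶ V)
    (hπ : IsIntegralMor π) :
    ∃ (Y' : Sp S) (ν : Y' ⟶ Y) (j' : Z ⟶ Y'), IsAlgSpace Y' ∧ IsIntegralMor ν ∧ IsPullback j' π ν j := by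
  have hjm : Mono j := K596.Mono.mono_of_repWith (fun _ _ f (_ : IsOpenImmersion f) => inferInstance) hj
  have hπ' : RepWith @IsIntegralHom π := K617.FinLoc.isIntegralMor_iff.1 hπ
  have hπq : RepWith @QuasiCompact π :=
    K609.Points.repWith_mono (fun f (_ : IsIntegralHom f) => inferInstanceAs (QuasiCompact f)) hπ'
  have hπs : RepWith @IsSeparated π :=
    K609.Points.repWith_mono (fun f (_ : IsIntegralHom f) => inferInstanceAs (IsSeparated f)) hπ'
  have hjs : RepWith @IsSeparated j :=
    K609.Points.repWith_mono (fun f (_ : IsOpenImmersion f) => inferInstanceAs (IsSeparated f)) hj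
  have hfs : RepWith @IsSeparated (π ≫ j) := MorphismProperty.comp_mem _ _ _ hπs hjs
  have hqs : IsQuasiSeparatedMor (π ≫ j) :=
    (K595.DiagBasic.isQuasiSeparatedMor_iff_repWith hfs.1).2
      (K609.Points.repWith_mono (fun f (_ : IsSeparated f) => inferInstanceAs (QuasiSeparated f)) hfs)
  have hqc : IsQuasiCompactMor (π ≫ j) :=
    K596.QC.isQuasiCompactMor_comp hV hY (K596.QC.isQuasiCompactMor_of_repWith hπq) hjq
  obtain ⟨Y', ν, f', hY', hN⟩ := K615.RelNorm.exists_uNorm hY hqc hqs
  have hje : IsEtaleMor j := by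
    intro U φ hφ
    exact MorphismProperty.comp_mem _ _ _ hφ
      (K609.Points.repWith_mono (fun f (_ : IsOpenImmersion f) => inferInstanceAs (Etale f)) hj)
  have sqN : IsPullback (pullback.fst ν j) (pullback.snd ν j) ν j := .of_hasPullback ν j
  have sqY : IsPullback (𝟙 Z) π (π ≫ j) j := by
    refine ⟨⟨Category.id_comp _⟩, ⟨PullbackCone.IsLimit.mk _ (fun s => s.fst) (fun s => Category.comp_id _)
      (fun s => ?_) (fun s m h1 h2 => ?_)⟩⟩
    · rw [← cancel_mono j, Category.assoc]
      exact s.condition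
    · exact (Category.comp_id m).symm.trans h1
  let g : Z ⟶ pullback ν j := sqN.lift f' π hN.w
  have hg1 : g ≫ pullback.fst ν j = f' := sqN.lift_fst _ _ _
  have hg2 : g ≫ pullback.snd ν j = π := sqN.lift_snd _ _ _
  have h1 : K615.UN.UNorm π (pullback.snd ν j) g :=
    hN.baseChange hje sqY sqN hg2 (hg1.trans (Category.id_comp _).symm)
  have hP : IsAlgSpace (pullback ν j) := K613.Chart.isAlgSpace_of_isPullback hY.diag hY' hV sqN
  obtain ⟨e, he, -⟩ := K615.UN.exists_iso hZ hP (isRelNormalization_self hπ) (h1.isRel hV)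
  rw [Category.id_comp] at he
  refine ⟨Y', ν, f', hY', hN.integral, ?_⟩
  rw [← hg1, ← hg2, ← he]
  exact IsPullback.of_iso sqN e.symm (Iso.refl _) (Iso.refl _) (Iso.refl _) (by simp) (by simp) (by simp) (by simp)

end K620.IntExt
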