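import Mathlib.Topology.KrullDimension
import Mathlib.Topology.NoetherianSpace
import Mathlib.Topology.JacobsonSpace
import Mathlib.AlgebraicGeometry.Noetherian
import Mathlib.AlgebraicGeometry.Morphisms.FiniteType
import Groth.Prelude.Def_Flat

/-!
# Topology of isolated points of locally Noetherian (Jacobson) schemes
-/

set_option autoImplicit false
universe u
open AlgebraicGeometry Topology TopologicalSpace Order

namespace K620.IsoTop

theorem krullDim_le_zero_of_forall {W : Type*} [TopologicalSpace W] [QuasiSober W]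
    (h : ∀ a b : W, a ⤳ b → b ⤳ a) : topologicalKrullDim W ≤ 0 := by
  unfold topologicalKrullDim
  rw [krullDim_nonpos_iff_forall_isMax]
  intro A B hAB
  obtain ⟨a, ha⟩ := QuasiSober.sober A.isIrreducible A.isClosed
  obtain ⟨b, hb⟩ := QuasiSober.sober B.isIrreducible B.isClosed
  have hab : b ⤳ a := by
    rw [specializes_iff_mem_closure, hb.def]
    exact hAB ha.mem
  have hba : a ⤳ b := h b a hab
  change (B : Set W) ⊆ A
  rw [← hb.def, ← ha.def]
  exact specializes_iff_closure_subset.1 hba

theorem specializes_of_krullDim_le_zero {W : Type*} [TopologicalSpace W] (h : topologicalKrullDim W ≤ 0)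
    {a b : W} (hab : a ⤳ b) : b ⤳ a := by
  unfold topologicalKrullDim at h
  rw [krullDim_nonpos_iff_forall_isMin] at h
  let A : IrreducibleCloseds W := ⟨closure {a}, isIrreducible_singleton.closure, isClosed_closure⟩
  let B : IrreducibleCloseds W := ⟨closure {b}, isIrreducible_singleton.closure, isClosed_closure⟩
  have h1 : B ≤ A := specializes_iff_closure_subset.1 hab
  exact specializes_iff_closure_subset.2 (h A h1)

theorem zero_le_krullDim {W : Type*} [TopologicalSpace W] [Nonempty W] : 0 ≤ topologicalKrullDim W := by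
  have : Nonempty (IrreducibleCloseds W) :=
    ⟨⟨closure {Classical.arbitrary W}, isIrreducible_singleton.closure, isClosed_closure⟩⟩
  exact krullDim_nonneg

theorem zero_le_localDim {W : Type*} [TopologicalSpace W] (x : W) : 0 ≤ FlatMor.localDim W x := by
  refine le_iInf fun V => ?_
  have : Nonempty ↥(V.1 : Set W) := ⟨⟨x, V.2⟩⟩
  exact zero_le_krullDim

theorem localDim_le_of_isOpen {W : Type*} [TopologicalSpace W] (x : W) (V : Opens W) (hx : x ∈ V) :
    FlatMor.localDim W x ≤ topologicalKrullDim (V : Set W) := iInf_le _ (⟨V, hx⟩ : {U : Opens W // x ∈ U})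

theorem exists_opens_of_localDim {W : Type*} [TopologicalSpace W] {x : W} (h : FlatMor.localDim W x ≤ 0) :
    ∃ V : Opens W, x ∈ V ∧ topologicalKrullDim (V : Set W) ≤ 0 := by
  have : Nonempty {U : Opens W // x ∈ U} := ⟨⟨⊤, trivial⟩⟩
  obtain ⟨V, hV⟩ := ciInf_mem (fun U : {U : Opens W // x ∈ U} => topologicalKrullDim (U.1 : Set W))
  exact ⟨V.1, V.2, hV.le.trans h⟩

theorem localDim_le_krullDim {W : Type*} [TopologicalSpace W] (x : W) :
    FlatMor.localDim W x ≤ topologicalKrullDim W :=
  (localDim_le_of_isOpen x ⊤ trivial).trans (IsInducing.topologicalKrullDim_le IsInducing.subtypeVal)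

/-- In a Noetherian sober space a closed point without proper generizations is open. -/
theorem isOpen_singleton_of_noetherian {W : Type*} [TopologicalSpace W] [NoetherianSpace W] [QuasiSober W]
    {u : W} (h1 : ∀ u' : W, u ⤳ u' → u' = u) (h2 : ∀ u' : W, u' ⤳ u → u' = u) : IsOpen ({u} : Set W) := by
  have hfin : {Z ∈ irreducibleComponents W | u ∉ Z}.Finite :=
    (NoetherianSpace.finite_irreducibleComponents (α := W)).subset (fun Z hZ => hZ.1)
  have hC : IsClosed (⋃₀ {Z ∈ irreducibleComponents W | u ∉ Z}) :=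
    Set.sUnion_eq_biUnion ▸ hfin.isClosed_biUnion fun Z hZ => isClosed_of_mem_irreducibleComponents Z hZ.1
  have h3 : ({u} : Set W) = (⋃₀ {Z ∈ irreducibleComponents W | u ∉ Z})ᶜ := by
    ext x
    constructor
    · rintro rfl ⟨Z, ⟨-, hZ⟩, hx⟩
      exact hZ hx
    · intro hx
      by_contra hne
      have h4 : u ∈ irreducibleComponent x := by
        by_contra hu
        exact hx ⟨irreducibleComponent x, ⟨irreducibleComponent_mem_irreducibleComponents x, hu⟩,
          mem_irreducibleComponent⟩
      obtain ⟨z, hz⟩ := QuasiSober.sober (isIrreducible_irreducibleComponent (x := x))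
        isClosed_irreducibleComponent
      have h5 : z ⤳ u := by
        rw [specializes_iff_mem_closure]
        change u ∈ closure {z}
        rw [hz.def]
        exact h4
      have h6 := h2 z h5
      subst h6
      have h7 : z ⤳ x := by
        rw [specializes_iff_mem_closure]
        change x ∈ closure {z}
        rw [hz.def]
        exact mem_irreducibleComponent
      exact hne (h1 x h7)
  rw [h3]
  exact hC.isOpen_compl

/-- In a locally Noetherian scheme a point which is closed in an open neighbourhood and has no proper generizations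
is open. -/
theorem isOpen_singleton {U : Scheme.{u}} [IsLocallyNoetherian U] (O : U.Opens) {u : ↥U} (hu : u ∈ O)
    (h1 : ∀ u' ∈ O, u ⤳ u' → u' = u) (h2 : ∀ u' : ↥U, u' ⤳ u → u' = u) : IsOpen ({u} : Set ↥U) := by
  obtain ⟨W, hW, huW, hWO⟩ := exists_isAffineOpen_mem_and_subset (x := u) (U := O) hu
  have hN : NoetherianSpace ↥W := by
    have : IsAffine (W : Scheme.{u}) := hW
    have : IsLocallyNoetherian (W : Scheme.{u}) := isLocallyNoetherian_of_isOpenImmersion W.ι
    have : IsNoetherian (W : Scheme.{u}) := {}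
    exact inferInstanceAs (NoetherianSpace ↥(W : Scheme.{u}))
  have hS : QuasiSober ↥W := inferInstanceAs (QuasiSober ↥(W : Scheme.{u}))
  have h3 : IsOpen ({(⟨u, huW⟩ : ↥W)} : Set ↥W) := by
    refine isOpen_singleton_of_noetherian (fun u' h => ?_) (fun u' h => ?_)
    · exact Subtype.ext (h1 u'.1 (hWO u'.2) (h.map continuous_subtype_val))
    · exact Subtype.ext (h2 u'.1 (h.map continuous_subtype_val))
  have h4 := W.2.isOpenMap_subtype_val _ h3
  rwa [Set.image_singleton] at h4

/-- In a locally Noetherian Jacobson scheme an open subset without proper specializations is closed, and its points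
are open. -/
theorem isClosed_of_isOpen {U : Scheme.{u}} [IsLocallyNoetherian U] [JacobsonSpace ↥U] (F : Set ↥U)
    (hF : IsOpen F) (hs : ∀ a ∈ F, ∀ b ∈ F, a ⤳ b → a = b) :
    IsClosed F ∧ ∀ z ∈ F, IsOpen ({z} : Set ↥U) := by
  have h1 : ∀ z ∈ F, IsOpen ({z} : Set ↥U) := by
    intro z hz
    refine isOpen_singleton ⟨F, hF⟩ hz (fun u' hu' h => (hs z hz u' hu' h).symm) (fun u' h => ?_)
    exact hs u' (h.mem_open hF hz) z hz h
  have h2 : ∀ z ∈ F, IsClosed ({z} : Set ↥U) := fun z hz =>
    isClosed_singleton_of_isLocallyClosed_singleton (h1 z hz).isLocallyClosed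
  refine ⟨?_, h1⟩
  rw [← isOpen_compl_iff, isOpen_iff_forall_mem_open]
  intro x hx
  obtain ⟨W, hW, hxW, -⟩ := exists_isAffineOpen_mem_and_subset (x := x) (U := ⊤) trivial
  have hN : NoetherianSpace ↥W := by
    have : IsAffine (W : Scheme.{u}) := hW
    have : IsLocallyNoetherian (W : Scheme.{u}) := isLocallyNoetherian_of_isOpenImmersion W.ι
    have : IsNoetherian (W : Scheme.{u}) := {}
    exact inferInstanceAs (NoetherianSpace ↥(W : Scheme.{u}))
  have hc : IsCompact (F ∩ W) := by
    have h3 : IsCompact (Subtype.val ⁻¹' F : Set ↥W) := NoetherianSpace.isCompact _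
    have h4 := h3.image continuous_subtype_val
    have h5 : Subtype.val '' (Subtype.val ⁻¹' F : Set ↥W) = F ∩ W := by
      ext y
      constructor
      · rintro ⟨y, hy, rfl⟩
        exact ⟨hy, y.2⟩
      · rintro ⟨hy1, hy2⟩
        exact ⟨⟨y, hy2⟩, hy1, rfl⟩
    rwa [h5] at h4
  have hfin : (F ∩ W).Finite := by
    obtain ⟨t, ht⟩ := hc.elim_nhds_subcover (fun z => {z}) (fun z hz => (h1 z hz.1).mem_nhds rfl)
    refine t.finite_toSet.subset (ht.2.trans ?_)
    intro z hz
    simpa using hz
  have hcl : IsClosed (F ∩ W) := by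
    have h3 : F ∩ W = ⋃ z ∈ F ∩ (W : Set ↥U), {z} := (Set.biUnion_of_singleton _).symm
    rw [h3]
    exact hfin.isClosed_biUnion fun z hz => h2 z hz.1
  refine ⟨W ∩ (F ∩ W)ᶜ, ?_, W.2.inter hcl.isOpen_compl, hxW, fun h => hx h.1⟩
  rintro y ⟨hy1, hy2⟩ hyF
  exact hy2 ⟨hyF, hy1⟩

end K620.IsoTop
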