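import Groth.Agent.AlgSp.K620.IsoTop
import Groth.Agent.AlgSp.K621.Charts
import Groth.Agent.AlgSp.K621.Decent
import Groth.Agent.AlgSp.K609.Points
import Groth.Prelude.Def_AlgSpDec
import Groth.Prelude.Def_AlgSp3

/-!
# Isolated points and zero-dimensional spaces over a field
-/

set_option autoImplicit false
universe u
open CategoryTheory CategoryTheory.Limits AlgebraicGeometry Opposite Topology TopologicalSpace
open AlgSp

namespace K620.Isolated

open K620.IsoTop

variable {S : Scheme.{u}}

/-- The hypotheses on an algebraic space used here: all étale charts are locally Noetherian Jacobson schemes, and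
there are no specializations in the fibres of étale charts. -/
structure Good (X : Sp S) : Prop where
  isAlgSpace : IsAlgSpace X
  noeth : ∀ {U : Over S} {a : (yon S).obj U ⟶ X}, RepWith @Etale a → IsLocallyNoetherian U.left
  jac : ∀ {U : Over S} {a : (yon S).obj U ⟶ X}, RepWith @Etale a → JacobsonSpace ↥U.left
  spec : ∀ {U : Over S} {a : (yon S).obj U ⟶ X}, RepWith @Etale a → ∀ {u u' : ↥U.left}, u' ⤳ u →
    Points.ofPt a u' = Points.ofPt a u → u' = u

variable {X : Sp S}

/-- A point which is closed in an open neighbourhood and has no proper generization is open. -/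
theorem Good.isOpen_singleton (hX : Good X) {x : Points X} {V : Set (Points X)} (hV : IsOpen V) (hxV : x ∈ V)
    (h1 : ∀ y ∈ V, x ⤳ y → y = x) (h2 : ∀ y : Points X, y ⤳ x → y = x) : IsOpen ({x} : Set (Points X)) := by
  obtain ⟨U, a, u, ha, rfl⟩ := K621.Base.exists_chart hX.isAlgSpace x
  have hN := hX.noeth ha
  have hcont := Points.continuous_ofPt a
  have h3 : IsOpen ({u} : Set ↥U.left) := by
    refine IsoTop.isOpen_singleton ⟨Points.ofPt a ⁻¹' V, hV.preimage hcont⟩ hxV (fun u' hu' h => ?_)
      (fun u' h => ?_)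
    · exact (hX.spec ha h (h1 _ hu' (h.map hcont)).symm).symm
    · exact hX.spec ha h (h2 _ (h.map hcont))
  have h4 := K609.Points.isOpenMap_ofPt ha _ h3
  rwa [Set.image_singleton] at h4

theorem Good.isClosed_of_isOpen (hX : Good X) {x : Points X} (h : IsOpen ({x} : Set (Points X))) :
    IsClosed ({x} : Set (Points X)) := by
  obtain ⟨U, a, ha, has⟩ := hX.isAlgSpace.atlas
  have hN := hX.noeth ha
  have hJ := hX.jac ha
  have hcont := Points.continuous_ofPt a
  have h1 := (IsoTop.isClosed_of_isOpen (Points.ofPt a ⁻¹' {x}) (h.preimage hcont) (fun b hb c hc hbc =>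
    hX.spec ha hbc ((show Points.ofPt a b = x from hb).trans (show Points.ofPt a c = x from hc).symm))).1
  exact (K609.Points.isQuotientMap_ofPt ha has).isClosed_preimage.1 h1

theorem Good.localDim_le (hX : Good X) {x : Points X} (h : IsOpen ({x} : Set (Points X))) {U : Over S}
    {a : (yon S).obj U ⟶ X} (ha : RepWith @Etale a) {u : ↥U.left} (hu : Points.ofPt a u = x) :
    FlatMor.localDim ↥U.left u = 0 := by
  refine le_antisymm ?_ (zero_le_localDim u)
  have hcont := Points.continuous_ofPt a
  let O : U.left.Opens := ⟨Points.ofPt a ⁻¹' {x}, h.preimage hcont⟩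
  refine (localDim_le_of_isOpen u O hu).trans ?_
  have hS : QuasiSober ↥O := inferInstanceAs (QuasiSober ↥(O : Scheme.{u}))
  refine @krullDim_le_zero_of_forall ↥O _ hS (fun b c hbc => ?_)
  have h1 : b.1 ⤳ c.1 := hbc.map continuous_subtype_val
  have h2 := hX.spec ha h1 ((show Points.ofPt a b.1 = x from b.2).trans (show Points.ofPt a c.1 = x from c.2).symm)
  have h3 : b = c := Subtype.ext h2
  rw [h3]

theorem Good.isOpen_of_localDim (hX : Good X) {U : Over S}
    {a : (yon S).obj U ⟶ X} (ha : RepWith @Etale a) {u : ↥U.left} (h : FlatMor.localDim ↥U.left u ≤ 0) :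
    IsOpen ({Points.ofPt a u} : Set (Points X)) := by
  obtain ⟨V, huV, hV⟩ := exists_opens_of_localDim h
  have hN := hX.noeth ha
  have hT : T0Space ↥V := inferInstance
  have h3 : IsOpen ({u} : Set ↥U.left) := by
    refine IsoTop.isOpen_singleton V huV (fun u' hu' h => ?_) (fun u' h => ?_)
    · have h1 : (⟨u, huV⟩ : (V : Set ↥U.left)) ⤳ ⟨u', hu'⟩ := (subtype_specializes_iff _ _).2 h
      have h2 := specializes_of_krullDim_le_zero hV h1
      exact (Specializes.antisymm h (h2.map continuous_subtype_val)).eq.symm
    · have hu' : u' ∈ V := h.mem_open V.2 huV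
      have h1 : (⟨u', hu'⟩ : (V : Set ↥U.left)) ⤳ ⟨u, huV⟩ := (subtype_specializes_iff _ _).2 h
      have h2 := specializes_of_krullDim_le_zero hV h1
      exact (Specializes.antisymm h (h2.map continuous_subtype_val)).eq
  have h4 := K609.Points.isOpenMap_ofPt ha _ h3
  rwa [Set.image_singleton] at h4

theorem Good.isOpen_iff_closed (hX : Good X) (x : Points X) : IsOpen ({x} : Set (Points X)) ↔
    (IsClosed ({x} : Set (Points X)) ∧ ∀ x' : Points X, x' ⤳ x → x' = x) := by
  constructor
  · intro h
    exact ⟨hX.isClosed_of_isOpen h, fun x' hx' => hx'.mem_open h rfl⟩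
  · rintro ⟨h1, h2⟩
    refine hX.isOpen_singleton isOpen_univ trivial (fun y _ hy => ?_) h2
    exact hy.mem_closed h1 rfl

theorem Good.isOpen_iff_hasAt (hX : Good X) (x : Points X) : IsOpen ({x} : Set (Points X)) ↔
    HasAt (fun U u => FlatMor.localDim ↥U u = 0) X x := by
  constructor
  · intro h
    obtain ⟨U, a, u, ha, hu⟩ := K621.Base.exists_chart hX.isAlgSpace x
    exact ⟨U, a, u, ha, hu, hX.localDim_le h ha hu⟩
  · rintro ⟨U, a, u, ha, rfl, h⟩
    exact hX.isOpen_of_localDim ha h.le

theorem Good.localDim_points_iff (hX : Good X) (hT : T0Space (Points X)) (x : Points X) :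
    FlatMor.localDim (Points X) x = 0 ↔ IsOpen ({x} : Set (Points X)) := by
  constructor
  · intro h
    obtain ⟨V, hxV, hV⟩ := exists_opens_of_localDim h.le
    refine hX.isOpen_singleton V.2 hxV (fun y hy h => ?_) (fun y h => ?_)
    · have h1 : (⟨x, hxV⟩ : (V : Set (Points X))) ⤳ ⟨y, hy⟩ := (subtype_specializes_iff _ _).2 h
      have h2 := specializes_of_krullDim_le_zero hV h1
      exact (Specializes.antisymm h (h2.map continuous_subtype_val)).eq.symm
    · have hy : y ∈ V := h.mem_open V.2 hxV
      have h1 : (⟨y, hy⟩ : (V : Set (Points X))) ⤳ ⟨x, hxV⟩ := (subtype_specializes_iff _ _).2 h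
      have h2 := specializes_of_krullDim_le_zero hV h1
      exact (Specializes.antisymm h (h2.map continuous_subtype_val)).eq
  · intro h
    refine le_antisymm ?_ (zero_le_localDim x)
    refine (localDim_le_of_isOpen x ⟨{x}, h⟩ rfl).trans ?_
    have hss : Subsingleton ↥({x} : Set (Points X)) := inferInstance
    have hS : QuasiSober ↥({x} : Set (Points X)) := by
      have : DiscreteTopology ↥({x} : Set (Points X)) := inferInstance
      infer_instance
    exact @krullDim_le_zero_of_forall ↥({x} : Set (Points X)) _ hS (fun b c _ => by rw [Subsingleton.elim b c])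

/-- Discreteness and dimension zero. -/
theorem Good.krullDim_chart_le (hX : Good X) (h : DiscreteTopology (Points X)) {U : Over S}
    {a : (yon S).obj U ⟶ X} (ha : RepWith @Etale a) : topologicalKrullDim ↥U.left ≤ 0 := by
  refine krullDim_le_zero_of_forall fun b c hbc => ?_
  have h1 : Points.ofPt a b ⤳ Points.ofPt a c := hbc.map (Points.continuous_ofPt a)
  rw [hX.spec ha hbc h1.eq]

theorem Good.zero_le_dim (hX : Good X) [Nonempty (Points X)] : 0 ≤ dim X := by
  obtain ⟨U, a, u, ha, -⟩ := K621.Base.exists_chart hX.isAlgSpace (Classical.arbitrary (Points X))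
  have : Nonempty ↥U.left := ⟨u⟩
  exact (zero_le_krullDim (W := ↥U.left)).trans (le_iSup_of_le U (le_iSup_of_le a (le_iSup_of_le ha le_rfl)))

theorem krullDim_le_dim {U : Over S} {a : (yon S).obj U ⟶ X} (ha : RepWith @Etale a) :
    topologicalKrullDim ↥U.left ≤ dim X :=
  le_iSup_of_le U (le_iSup_of_le a (le_iSup_of_le ha le_rfl))

theorem Good.discrete_iff (hX : Good X) [Nonempty (Points X)] : DiscreteTopology (Points X) ↔ dim X = 0 := by
  constructor
  · intro h
    refine le_antisymm ?_ hX.zero_le_dim
    exact iSup_le fun U => iSup_le fun a => iSup_le fun ha => hX.krullDim_chart_le h ha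
  · intro h
    refine discreteTopology_iff_isOpen_singleton.2 fun x => ?_
    obtain ⟨U, a, u, ha, rfl⟩ := K621.Base.exists_chart hX.isAlgSpace x
    exact hX.isOpen_of_localDim ha ((localDim_le_krullDim u).trans ((krullDim_le_dim ha).trans h.le))

theorem krullDim_eq_zero_of_discrete {W : Type*} [TopologicalSpace W] [Nonempty W] [DiscreteTopology W] :
    topologicalKrullDim W = 0 :=
  le_antisymm (krullDim_le_zero_of_forall fun b c hbc => by rw [hbc.eq]) zero_le_krullDim

theorem Good.discrete_of_krullDim (hX : Good X) (hT : T0Space (Points X))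
    (h : topologicalKrullDim (Points X) = 0) : DiscreteTopology (Points X) := by
  refine discreteTopology_iff_isOpen_singleton.2 fun x => ?_
  exact (hX.localDim_points_iff hT x).1
    (le_antisymm ((localDim_le_krullDim x).trans h.le) (zero_le_localDim x))

theorem Good.dim_of_finite (hX : Good X) (hd : IsDecent X) [Nonempty (Points X)] [Finite (Points X)] :
    dim X = 0 := by
  refine le_antisymm ?_ hX.zero_le_dim
  refine iSup_le fun U => iSup_le fun a => iSup_le fun ha => ?_
  refine krullDim_le_zero_of_forall fun b c hbc => ?_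
  obtain ⟨W, hcW, -, hWa⟩ := K621.Base.exists_affine_openChart c ⊤ trivial
  have ha' := K621.Base.repWith_openChart ha W
  have hJ : JacobsonSpace ↥W := hX.jac ha'
  have hfin : Finite ↥W := by
    have h1 : (Set.univ : Set ↥(K621.Base.openChart U W).left) =
        ⋃ x : Points X, Points.ofPt ((yon S).map (K621.Base.openChartι U W) ≫ a) ⁻¹' {x} := by
      ext w
      simp
    have h2 : (Set.univ : Set ↥(K621.Base.openChart U W).left).Finite := by
      rw [h1]
      exact Set.finite_iUnion fun x => K621.Decent.finFibres_of_isDecent hd x _ _ hWa ha'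
    exact Set.finite_univ_iff.1 h2
  have hD : DiscreteTopology ↥W := inferInstance
  have hbW : b ∈ W := hbc.mem_open W.2 hcW
  have h1 : (⟨b, hbW⟩ : ↥W) ⤳ ⟨c, hcW⟩ := (subtype_specializes_iff _ _).2 hbc
  have h2 : b = c := congrArg Subtype.val h1.eq
  rw [h2]

/-- Algebraic spaces locally of finite type over a field satisfy the hypotheses. -/
theorem good_of_lft (k : Type u) [Field k] {X : Sp (Spec (CommRingCat.of k))} (hX : IsAlgSpace X)
    (p : X ⟶ (yon (Spec (CommRingCat.of k))).obj (Over.mk (𝟙 _))) (hp : LocP @LocallyOfFiniteType p) : Good X := by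
  have h1 : ∀ {U : Over (Spec (CommRingCat.of k))} {a : (yon (Spec (CommRingCat.of k))).obj U ⟶ X},
      RepWith @Etale a → LocallyOfFiniteType U.hom := by
    intro U a ha
    obtain ⟨h, hh⟩ := (yon (Spec (CommRingCat.of k))).map_surjective (a ≫ p)
    have h2 : LocallyOfFiniteType h.left := hp a (𝟙 _) h ha (repWith_id _ _) (by rw [hh, Category.comp_id])
    have h3 : h.left = U.hom := by
      have h4 := Over.w h
      exact (Category.comp_id h.left).symm.trans h4
    rwa [h3] at h2
  have h4 : ∀ {U : Over (Spec (CommRingCat.of k))} {a : (yon (Spec (CommRingCat.of k))).obj U ⟶ X},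
      RepWith @Etale a → IsLocallyNoetherian U.left := by
    intro U a ha
    have := h1 ha
    exact LocallyOfFiniteType.isLocallyNoetherian U.hom
  refine ⟨hX, h4, ?_, ?_⟩
  · intro U a ha
    have := h1 ha
    exact LocallyOfFiniteType.jacobsonSpace U.hom
  · intro U a ha u u' hs he
    have := h4 ha
    exact K621.Decent.eq_of_specializes_of_coheight hX ha hs he (K621.Charts.ringKrullDim_stalk_lt_top u)

end K620.Isolated
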