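import Groth.Prelude.Def_AlgSpDec
import Groth.Agent.AlgSp.K620.DiagGeom
import Groth.Agent.AlgSp.K613.Chart
import Groth.Agent.AlgSp.K611.Pt
import Groth.Agent.S0079
import Mathlib.AlgebraicGeometry.Sites.EtalePoint
import Mathlib.AlgebraicGeometry.Morphisms.FlatDescent

/-!
# Locally separated spaces: geometric points are quasi-compact
-/

set_option autoImplicit false
universe u
open CategoryTheory CategoryTheory.Limits AlgebraicGeometry Topology TopologicalSpace Opposite
open AlgSp

namespace K620.LocSep

open K613.Basic K613.Cover K613.Chart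

variable {S : Scheme.{u}}

/-- A separably closed field-valued point of an étale scheme over a field point. -/
theorem exists_section {K : Type u} [Field K] [IsSepClosed K] {str : Spec (CommRingCat.of K) ⟶ S}
    {E : Over S} (g : E ⟶ Over.mk str) (hg : Etale g.left) (e : ↥E.left) :
    ∃ l : Over.mk str ⟶ E, l ≫ g = 𝟙 _ ∧ l.left (IsLocalRing.closedPoint K) = e := by
  have : Subsingleton ↥(Over.mk str).left := inferInstanceAs (Subsingleton ↥(Spec (CommRingCat.of K)))
  obtain ⟨l, hl1, hl2⟩ := Scheme.exists_fac_of_etale_of_isSepClosed g.left (𝟙 _) e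
    (Subsingleton.elim _ _)
  let l' : Over.mk str ⟶ E := Over.homMk l (by
    rw [← Over.w g, ← Category.assoc]
    exact (congrArg (· ≫ str) hl1).trans (Category.id_comp _))
  refine ⟨l', Over.OverMorphism.ext hl1, ?_⟩
  rw [← hl2]
  exact congrArg (fun z => l z) (Subsingleton.elim _ _)

/-- The equivalence relation of a chart as equalizer locus in the fibre product `W ×_S W`. -/
theorem exists_rel {X : Sp S} {P : MorphismProperty Scheme.{u}} [P.IsStableUnderBaseChange]
    (hX : RepWith P (Limits.diag X)) {W : Over S} (a : (yon S).obj W ⟶ X) :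
    ∃ (R : Over S) (t s : R ⟶ W) (h : t.left ≫ W.hom = s.left ≫ W.hom),
      IsPullback ((yon S).map t) ((yon S).map s) a a ∧ P (pullback.lift t.left s.left h) := by
  let T : Over S := Over.mk (pullback.fst W.hom W.hom ≫ W.hom)
  let p1 : T ⟶ W := Over.homMk (pullback.fst W.hom W.hom) rfl
  let p2 : T ⟶ W := Over.homMk (pullback.snd W.hom W.hom) pullback.condition.symm
  obtain ⟨R, r, hr, hP⟩ := (repWith_diag_iff P).1 hX T ((yon S).map p1 ≫ a) ((yon S).map p2 ≫ a)
  refine ⟨R, r ≫ p1, r ≫ p2, ?_, ?_, ?_⟩
  · rw [Over.w, Over.w]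
  · refine isPullback_of_yon ?_ fun T' x y hxy => ?_
    · rw [Functor.map_comp, Functor.map_comp, Category.assoc, Category.assoc, hr.w]
    · obtain ⟨x, rfl⟩ := (yon S).map_surjective x
      obtain ⟨y, rfl⟩ := (yon S).map_surjective y
      let z : T' ⟶ T := Over.homMk (pullback.lift x.left y.left (by rw [Over.w, Over.w]))
        (by
          change pullback.lift _ _ _ ≫ pullback.fst _ _ ≫ _ = _
          rw [pullback.lift_fst_assoc, Over.w])
      have hz1 : z ≫ p1 = x := Over.OverMorphism.ext (pullback.lift_fst _ _ _)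
      have hz2 : z ≫ p2 = y := Over.OverMorphism.ext (pullback.lift_snd _ _ _)
      obtain ⟨r', hr', hr''⟩ := hr.lift T' z (by
        rw [← Category.assoc, ← Category.assoc, ← Functor.map_comp, ← Functor.map_comp, hz1, hz2, hxy])
      refine ⟨(yon S).map r', ⟨?_, ?_⟩, ?_⟩
      · rw [← Functor.map_comp, ← Category.assoc, hr', hz1]
      · rw [← Functor.map_comp, ← Category.assoc, hr', hz2]
      · rintro c ⟨hc1, hc2⟩
        obtain ⟨c, rfl⟩ := (yon S).map_surjective c
        rw [← Functor.map_comp] at hc1 hc2
        have hc1' := (yon S).map_injective hc1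
        have hc2' := (yon S).map_injective hc2
        refine congrArg (yon S).map (hr'' c ?_)
        dsimp only
        apply Over.OverMorphism.ext
        apply pullback.hom_ext
        · have := congrArg (·.left) hc1'
          refine Eq.trans ?_ (this.trans (pullback.lift_fst _ _ _).symm)
          simp [p1]
        · have := congrArg (·.left) hc2'
          refine Eq.trans ?_ (this.trans (pullback.lift_snd _ _ _).symm)
          simp [p2]
  · have : pullback.lift (r ≫ p1).left (r ≫ p2).left (by rw [Over.w, Over.w]) = r.left := by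
      apply pullback.hom_ext
      · rw [pullback.lift_fst]; rfl
      · rw [pullback.lift_snd]; rfl
    rw [this]
    exact hP

/-- The key finiteness: `X` locally separated, `Spec K ⟶ X` with `K` separably closed, `a : h_U ⟶ X` étale and
`E = U ×_X Spec K`.  Then the inverse image in `E` of an affine open of `U` is finite. -/
theorem finite_preimage_affine {X : Sp S} (hX : RepWith @IsImmersion (Limits.diag X)) {U : Over S}
    {a : (yon S).obj U ⟶ X} (ha : RepWith @Etale a) {K : Type u} [Field K] [IsSepClosed K]
    {str : Spec (CommRingCat.of K) ⟶ S} (x : (yon S).obj (Over.mk str) ⟶ X)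
    {E : Over S} {f : E ⟶ U} {g : E ⟶ Over.mk str} (sq : IsPullback ((yon S).map f) ((yon S).map g) a x)
    (W : U.left.Opens) (hW : IsAffineOpen W) : (f.left ⁻¹' (W : Set ↥U.left)).Finite := by
  by_contra hinf
  have hg : Etale g.left := ha.2 _ _ _ sq
  have : Subsingleton ↥(Over.mk str).left := inferInstanceAs (Subsingleton ↥(Spec (CommRingCat.of K)))
  have : Infinite (f.left ⁻¹' (W : Set ↥U.left)) := Set.infinite_coe_iff.2 hinf
  have : IsAffine W.toScheme := hW
  choose σ hσ1 hσ2 using fun e : (f.left ⁻¹' (W : Set ↥U.left)) => exists_section g hg e.1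
  -- the chart restricted to `W`
  let V : Over S := Over.mk (W.ι ≫ U.hom)
  have : IsAffine V.left := hW
  let j : V ⟶ U := Over.homMk W.ι rfl
  have hj : Etale j.left := show Etale W.ι from inferInstance
  have haV : RepWith @Etale ((yon S).map j ≫ a) :=
    (repWith_isMultiplicative @Etale).toIsStableUnderComposition.comp_mem _ _
      ((repWith_yon_map_iff _ _).2 hj) ha
  obtain ⟨R, t, s, hts, sqR, hR⟩ := exists_rel hX ((yon S).map j ≫ a)
  have ht : Etale t.left := haV.2 _ _ _ sqR.flip
  obtain ⟨δ, hδ⟩ := (yon S).map_surjective (sqR.lift (𝟙 _) (𝟙 _) rfl)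
  have hδ1 : δ ≫ t = 𝟙 _ := by
    apply (yon S).map_injective
    rw [Functor.map_comp, hδ, sqR.lift_fst, CategoryTheory.Functor.map_id]
  have hδ2 : δ ≫ s = 𝟙 _ := by
    apply (yon S).map_injective
    rw [Functor.map_comp, hδ, sqR.lift_snd, CategoryTheory.Functor.map_id]
  -- the points
  have hrange : ∀ e, Set.range (σ e ≫ f).left ⊆ Set.range W.ι := by
    rintro e _ ⟨z, rfl⟩
    rw [Scheme.Opens.range_ι]
    have hz : z = IsLocalRing.closedPoint K := Subsingleton.elim _ _
    have h0 : (σ e ≫ f).left z = f.left e.1 := by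
      rw [hz]
      exact (Scheme.Hom.comp_apply (σ e).left f.left _).trans (congrArg f.left (hσ2 e))
    rw [h0]
    exact e.2
  let v : ∀ e : (f.left ⁻¹' (W : Set ↥U.left)), Over.mk str ⟶ V := fun e =>
    Over.homMk (IsOpenImmersion.lift W.ι (σ e ≫ f).left (hrange e)) (by
      change _ ≫ W.ι ≫ U.hom = _
      rw [IsOpenImmersion.lift_fac_assoc]
      exact Over.w _)
  have hv : ∀ e, v e ≫ j = σ e ≫ f := fun e => Over.OverMorphism.ext (IsOpenImmersion.lift_fac _ _ _)
  have hva : ∀ e, (yon S).map (v e) ≫ (yon S).map j ≫ a = x := by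
    intro e
    rw [← Category.assoc, ← Functor.map_comp, hv, Functor.map_comp, Category.assoc, sq.w, ← Category.assoc,
      ← Functor.map_comp, hσ1, CategoryTheory.Functor.map_id, Category.id_comp]
  refine DiagGeom.contradiction' V.hom t.left s.left hts hR δ.left (congrArg (·.left) hδ1)
    (congrArg (·.left) hδ2) (fun e => (v e).left) ?_ ?_
  · intro e e' hee
    have h1 : v e = v e' := Over.OverMorphism.ext hee
    have h2 : σ e ≫ f = σ e' ≫ f := by rw [← hv, ← hv, h1]
    have h3 : σ e = σ e' := by
      apply (yon S).map_injective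
      apply sq.hom_ext
      · rw [← Functor.map_comp, ← Functor.map_comp, h2]
      · rw [← Functor.map_comp, ← Functor.map_comp, hσ1, hσ1]
    apply Subtype.ext
    rw [← hσ2 e, ← hσ2 e', h3]
  · intro e e'
    obtain ⟨r, hr⟩ := (yon S).map_surjective (sqR.lift ((yon S).map (v e)) ((yon S).map (v e'))
      ((hva e).trans (hva e').symm))
    refine ⟨r.left, ?_, ?_⟩
    · have : r ≫ t = v e := by
        apply (yon S).map_injective
        rw [Functor.map_comp, hr, sqR.lift_fst]
      exact congrArg (·.left) this
    · have : r ≫ s = v e' := by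
        apply (yon S).map_injective
        rw [Functor.map_comp, hr, sqR.lift_snd]
      exact congrArg (·.left) this

set_option backward.isDefEq.respectTransparency.types false in
theorem descends_quasiCompact :
    MorphismProperty.DescendsAlong (C := Scheme.{u}) @QuasiCompact fppf.{u} := by
  have h := Groth.Agent.S0079.result.{u}
  infer_instance

/-- A separably closed field point of a locally separated algebraic space is quasi-compact. -/
theorem repWith_quasiCompact {X : Sp S} (hX : IsAlgSpace X) (hd : RepWith @IsImmersion (Limits.diag X))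
    {K : Type u} [Field K] [IsSepClosed K]
    {str : Spec (CommRingCat.of K) ⟶ S} (x : (yon S).obj (Over.mk str) ⟶ X) : RepWith @QuasiCompact x := by
  obtain ⟨U, a, ha⟩ := exists_ch hX
  obtain ⟨E, f, g, sq⟩ := K611.exists_pullback a x ha.et.1
  have hf : QuasiCompact f.left := by
    rw [quasiCompact_iff_forall_isAffineOpen]
    intro W hW
    exact (finite_preimage_affine hd ha.et x sq W hW).isCompact
  have := descends_quasiCompact.{u}
  exact ha.fSurj.repWith sq.flip (hX.representable_from_yon x) ((repWith_yon_map_iff _ _).2 hf)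

/-- Every point of a sheaf has a representative with algebraically closed field. -/
theorem exists_algClosed {F : Sp S} (x : Points F) : ∃ p : FieldPt F, IsAlgClosed p.K ∧ Points.mk p = x := by
  induction x using Points.ind with
  | h q =>
  let w : Spec (CommRingCat.of (AlgebraicClosure q.K)) ⟶ S :=
    Spec.map (CommRingCat.ofHom (algebraMap q.K (AlgebraicClosure q.K))) ≫ q.str
  let a : Over.mk w ⟶ q.pt := Over.homMk (Spec.map (CommRingCat.ofHom (algebraMap q.K (AlgebraicClosure q.K)))) rfl
  let p : FieldPt F := ⟨AlgebraicClosure q.K, w, F.obj.map a.op q.val⟩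
  refine ⟨p, inferInstanceAs (IsAlgClosed (AlgebraicClosure q.K)), Points.sound
    ⟨AlgebraicClosure q.K, inferInstance, w, 𝟙 _, a, ?_⟩⟩
  exact Functor.map_id_apply F.obj _ _

/-- Every point of a locally separated algebraic space has a quasi-compact representative. -/
theorem exists_qc_point {X : Sp S} (hX : IsAlgSpace X) (hd : RepWith @IsImmersion (Limits.diag X)) (x : Points X) :
    ∃ p : FieldPt X, Points.mk p = x ∧ RepWith @QuasiCompact p.toHom := by
  obtain ⟨p, hp, hpx⟩ := exists_algClosed x
  have : IsAlgClosed p.K := hp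
  exact ⟨p, hpx, repWith_quasiCompact (K := p.K) hX hd p.toHom⟩

end K620.LocSep
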