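import Mathlib.Topology.Spectral.ConstructibleTopology
import Mathlib.Topology.Constructible
import Mathlib.Topology.Spectral.Hom

/-!
# Constructible sets descend along spectral maps

`isConstructible_of_preimage` : let `a : U → X` be a spectral map with open range, `U` spectral (not necessarily T0),
`X` T0, prespectral and quasi-separated; a subset of the range of `a` whose preimage is constructible is constructible.
-/

set_option autoImplicit false

open Set TopologicalSpace Topology

namespace K620.Patch

variable {U X : Type*} [TopologicalSpace U] [TopologicalSpace X]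

theorem isClosed_of_compact {V : Set U} (hV : IsOpen V) (h1 : IsCompact V) :
    IsClosed[constructibleTopology U] V := by
  have h2 : IsOpen[constructibleTopology U] Vᶜ := by
    apply TopologicalSpace.isOpen_generateFrom_of_mem
    exact Or.inr ⟨hV.isClosed_compl, by rwa [compl_compl]⟩
  exact (@isOpen_compl_iff U V (constructibleTopology U)).1 h2

theorem isOpen_of_isConstructible [CompactSpace U] {s : Set U} (hs : IsConstructible s) :
    IsOpen[constructibleTopology U] s ∧ IsClosed[constructibleTopology U] s := by
  induction hs using IsConstructible.empty_union_induction with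
  | open_retrocompact V hV hVc =>
    exact ⟨hVc.isCompact.isOpen_constructibleTopology_of_isOpen hV, isClosed_of_compact hV hVc.isCompact⟩
  | union s hs t ht hs' ht' =>
    exact ⟨@IsOpen.union U s t (constructibleTopology U) hs'.1 ht'.1,
      @IsClosed.union U s t (constructibleTopology U) hs'.2 ht'.2⟩
  | compl s hs hs' =>
    exact ⟨(@isOpen_compl_iff U s (constructibleTopology U)).2 hs'.2,
      (@isClosed_compl_iff U (constructibleTopology U) s).2 hs'.1⟩

theorem isConstructible_of_mem [QuasiSeparatedSpace X] {s : Set X} (hs : s ∈ constructibleTopologySubbasis X) :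
    IsConstructible s := by
  rcases hs with ⟨h1, h2⟩ | ⟨h1, h2⟩
  · exact h2.isConstructible h1
  · exact (h2.isConstructible h1.isOpen_compl).of_compl

theorem isConstructible_of_isOpen_isCompact [QuasiSeparatedSpace X] {E : Set X}
    (hEo : IsOpen[constructibleTopology X] E) (hEc : @IsCompact X (constructibleTopology X) E) :
    IsConstructible E := by
  have hb := @isTopologicalBasis_of_subbasis X (constructibleTopology X) (constructibleTopologySubbasis X) rfl
  have h1 : ∀ x : X, x ∈ E → ∃ f : Set (Set X), f.Finite ∧ f ⊆ constructibleTopologySubbasis X ∧ x ∈ ⋂₀ f ∧ ⋂₀ f ⊆ E := by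
    intro x hx
    obtain ⟨_, ⟨f, ⟨hf1, hf2⟩, rfl⟩, hxf, hfE⟩ :=
      @IsTopologicalBasis.exists_subset_of_mem_open X (constructibleTopology X) _ hb x E hx hEo
    exact ⟨f, hf1, hf2, hxf, hfE⟩
  choose! f hf1 hf2 hf3 hf4 using h1
  obtain ⟨t, ht2⟩ := @IsCompact.elim_nhds_subcover' X (constructibleTopology X) E hEc (fun x _ => ⋂₀ f x)
    (fun x hx => by
      refine @IsOpen.mem_nhds X (constructibleTopology X) x _ ?_ (hf3 x hx)
      exact @Set.Finite.isOpen_sInter X (constructibleTopology X) _ (hf1 x hx) (fun s hs =>
        TopologicalSpace.isOpen_generateFrom_of_mem (hf2 x hx hs)))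
  have h2 : E = ⋃ x ∈ t, ⋂₀ f (x : X) := by
    apply subset_antisymm ht2
    exact iUnion₂_subset fun x _ => hf4 x x.2
  rw [h2]
  refine IsConstructible.biUnion t.finite_toSet fun x _ => ?_
  exact IsConstructible.sInter (hf1 x x.2) fun s hs => isConstructible_of_mem (hf2 x x.2 hs)

theorem t2Space_constructible [T0Space X] [PrespectralSpace X] : @T2Space X (constructibleTopology X) := by
  refine @T2Space.mk X (constructibleTopology X) ?_
  intro x y hxy
  have key : ∀ x y : X, (∃ O : Set X, IsOpen O ∧ x ∈ O ∧ y ∉ O) →
      ∃ u v, IsOpen[constructibleTopology X] u ∧ IsOpen[constructibleTopology X] v ∧ x ∈ u ∧ y ∈ v ∧ Disjoint u v := by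
    rintro x y ⟨O, hO, hx, hy⟩
    obtain ⟨W, ⟨hW1, hW2⟩, hxW, hWO⟩ := PrespectralSpace.isTopologicalBasis.exists_subset_of_mem_open hx hO
    exact ⟨W, Wᶜ, hW2.isOpen_constructibleTopology_of_isOpen hW1,
      (@isOpen_compl_iff X W (constructibleTopology X)).2 (isClosed_of_compact hW1 hW2), hxW,
      fun h => hy (hWO h), disjoint_compl_right⟩
  obtain ⟨O, hO, hO'⟩ := exists_isOpen_xor_mem hxy
  rcases hO' with ⟨h1, h2⟩ | ⟨h1, h2⟩
  · exact key x y ⟨O, hO, h1, h2⟩
  · obtain ⟨u, v, hu, hv, hyu, hxv, huv⟩ := key y x ⟨O, hO, h1, h2⟩
    exact ⟨v, u, hv, hu, hxv, hyu, huv.symm⟩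

theorem continuous_constructible {a : U → X} (ha : IsSpectralMap a) :
    @Continuous U X (constructibleTopology U) (constructibleTopology X) a := by
  refine continuous_generateFrom_iff.2 ?_
  rintro s (⟨h1, h2⟩ | ⟨h1, h2⟩)
  · exact (ha.isCompact_preimage_of_isOpen h1 h2).isOpen_constructibleTopology_of_isOpen
      (h1.preimage ha.continuous)
  · have h3 := ha.isCompact_preimage_of_isOpen h1.isOpen_compl h2
    apply TopologicalSpace.isOpen_generateFrom_of_mem
    exact Or.inr ⟨h1.preimage ha.continuous, by rwa [preimage_compl] at h3⟩

theorem compactSpace_constructible [CompactSpace U] [QuasiSober U] [PrespectralSpace U] [QuasiSeparatedSpace U] :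
    @CompactSpace U (constructibleTopology U) := by
  have h : CompactSpace (WithConstructibleTopology U) := inferInstance
  exact @Function.Surjective.compactSpace (WithConstructibleTopology U) U _
    (constructibleTopology U) _ (WithTopology.continuous_ofTopology _) h (WithTopology.ofTopology_surjective _)

theorem isConstructible_of_preimage [CompactSpace U] [QuasiSober U] [PrespectralSpace U] [QuasiSeparatedSpace U]
    [T0Space X] [PrespectralSpace X] [QuasiSeparatedSpace X] {a : U → X} (ha : IsSpectralMap a)
    (hV : IsOpen (range a)) {E : Set X} (hE : E ⊆ range a) (hF : IsConstructible (a ⁻¹' E)) : IsConstructible E := by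
  have hcU : @CompactSpace U (constructibleTopology U) := compactSpace_constructible
  have hT2 : @T2Space X (constructibleTopology X) := t2Space_constructible
  have hcont := continuous_constructible ha
  have hFc := isOpen_of_isConstructible hF
  have hFc' := isOpen_of_isConstructible hF.compl
  have h1 : @IsCompact X (constructibleTopology X) E := by
    have h2 := @IsCompact.image U X (constructibleTopology U) (constructibleTopology X) (a ⁻¹' E) a
      (@IsClosed.isCompact U (constructibleTopology U) _ hcU hFc.2) hcont
    rwa [image_preimage_eq_of_subset hE] at h2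
  have h2 : @IsCompact X (constructibleTopology X) (range a \ E) := by
    have h3 := @IsCompact.image U X (constructibleTopology U) (constructibleTopology X) (a ⁻¹' E)ᶜ a
      (@IsClosed.isCompact U (constructibleTopology U) _ hcU hFc'.2) hcont
    have h4 : a '' (a ⁻¹' E)ᶜ = range a \ E := by
      ext x
      constructor
      · rintro ⟨u, hu, rfl⟩
        exact ⟨⟨u, rfl⟩, hu⟩
      · rintro ⟨⟨u, rfl⟩, hu⟩
        exact ⟨u, hu, rfl⟩
    rwa [h4] at h3
  have h3 : IsClosed[constructibleTopology X] (range a \ E) :=
    @IsCompact.isClosed X (constructibleTopology X) hT2 _ h2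
  have h4 : IsOpen[constructibleTopology X] (range a) :=
    (isCompact_range ha.continuous).isOpen_constructibleTopology_of_isOpen hV
  have h5 : IsOpen[constructibleTopology X] E := by
    have h6 : E = range a \ (range a \ E) := by rw [sdiff_sdiff_cancel_left hE]
    rw [h6]
    exact @IsOpen.sdiff X _ _ (constructibleTopology X) h4 h3
  exact isConstructible_of_isOpen_isCompact h5 h1

end K620.Patch
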