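import Groth.Agent.AlgSp.K620.Dec
import Groth.Agent.AlgSp.K618.FieldFib
import Groth.Agent.AlgSp.K619.MonoDisc
import Groth.Agent.AlgSp.K622.MonoQuot
import Groth.Agent.AlgSp.K610.EtaleMor
import Groth.Agent.AlgSp.K596.QC
import Groth.Agent.AlgSp.K613.Chart
import Groth.Agent.AlgSp.K621.Base
import Groth.Agent.AlgSp.K611.Pt

/-!
# Images of mono/quasi-compact points under quasi-compact morphisms
-/

set_option autoImplicit false
universe u
open CategoryTheory CategoryTheory.Limits AlgebraicGeometry Opposite Topology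
open AlgSp

namespace K620.QCDec

variable {S : Scheme.{u}}

/-- The image under a quasi-compact étale morphism of a point represented by a monomorphism from the spectrum of a
field is represented by such a monomorphism. -/
theorem exists_mono_point {X Y : Sp S} (hX : IsAlgSpace X) (hY : IsAlgSpace Y) (f : X ⟶ Y)
    (hq : IsQuasiCompactMor f) (he : IsEtaleMor f) (p : FieldPt X) (hm : Mono p.toHom) :
    ∃ q : FieldPt Y, Points.mk q = Points.mk (p.map f) ∧ Mono q.toHom := by
  let c : (yon S).obj p.pt ⟶ Y := p.toHom ≫ f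
  have sqM : IsPullback (pullback.fst f c) (pullback.snd f c) f c := .of_hasPullback f c
  have hpt : IsAlgSpace ((yon S).obj p.pt) := IsAlgSpace.yon_obj p.pt
  have hM : IsAlgSpace (pullback f c) := K613.Chart.isAlgSpace_pullback hX hpt hY f c
  have hMe : IsEtaleMor (pullback.snd f c) := K610.EtaleMor.isEtaleMor_baseChange hX hM hpt sqM.flip he
  have hcs : CompactSpace ↥p.pt.left := inferInstanceAs (CompactSpace ↥(Spec (CommRingCat.of p.K)))
  have hMq : IsQuasiCompactSp (pullback f c) := hq hpt (K596.QC.isQuasiCompactSp_yon p.pt) c _ _ sqM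
  obtain ⟨A, α, hα, hαs, hAc⟩ := hMq
  obtain ⟨e, hee⟩ := (yon S).map_surjective (α ≫ pullback.snd f c)
  have hel : Etale e.left := by
    rw [← repWith_yon_map_iff (P := @Etale), hee]
    exact hMe α hα
  have hAd : DiscreteTopology ↥A.left := K618.Sch.discreteTopology_of_etale_field (k := p.K) e.left
  have hAr : IsReduced A.left := K619.EtField.isReduced_of_etale (K := p.K) e.left
  have hAf : Finite ↥A.left := finite_of_compact_of_discrete
  obtain ⟨R, s, t, sqR⟩ := K621.Base.exists_pullback hY c c
  let n : (yon S).obj R ⟶ pullback f c := sqM.lift ((yon S).map t ≫ p.toHom) ((yon S).map s) (by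
    rw [Category.assoc]; exact sqR.w.symm)
  have hn1 : n ≫ pullback.fst f c = (yon S).map t ≫ p.toHom := sqM.lift_fst _ _ _
  have hn2 : n ≫ pullback.snd f c = (yon S).map s := sqM.lift_snd _ _ _
  have sqn : IsPullback n ((yon S).map t) (pullback.fst f c) p.toHom := by
    refine IsPullback.of_right (h₁₂ := pullback.snd f c) (v₁₃ := c) (h₂₂ := f) ?_ hn1 sqM.flip
    rw [hn2]
    exact sqR
  have hnm : Mono n := MorphismProperty.of_isPullback (P := MorphismProperty.monomorphisms (Sp S)) sqn.flip hm
  obtain ⟨B, i, j, sqB⟩ := K611.exists_pullback α n hα.1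
  have him : Mono i.left := K618.FieldFib.mono_left_of_isPullback sqB.flip
  have hio : IsOpenImmersion i.left := K619.MonoDisc.isOpenImmersion_of_mono_of_discrete i.left
  have hje : Etale j.left := hα.2 _ _ _ sqB
  have hjs : Surjective j.left := hαs.2 _ _ _ sqB
  have hjse : j ≫ s = i ≫ e := by
    apply (yon S).map_injective
    rw [Functor.map_comp, Functor.map_comp, hee, ← Category.assoc, sqB.w, Category.assoc, hn2]
  have hse : Etale s.left := by
    rw [← repWith_yon_map_iff (P := @Etale)]
    refine K610.EtaleMor.etale_of_source j (hpt.representable_from_yon _) ?_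
    rw [← Functor.map_comp, hjse, repWith_yon_map_iff, Over.comp_left]
    infer_instance
  have hBf : Finite ↥B.left := Finite.of_injective i.left i.left.injective
  have hRc : CompactSpace ↥R.left := by
    have : CompactSpace ↥B.left := inferInstance
    exact j.left.surjective.compactSpace j.left.continuous
  have hsq : QuasiCompact s.left := by
    have : IsAffine p.pt.left := inferInstanceAs (IsAffine (Spec (CommRingCat.of p.K)))
    exact inferInstance
  obtain ⟨q, hq1, hq2⟩ := K622.MonoQuot.exists_mono_point (k := p.K) (str := p.str) c sqR.flip hse hsq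
  refine ⟨q, hq1.trans ?_, hq2⟩
  congr 1
  have h1 := K622.Basic.map_ofHom (K := p.K) (str := p.str) p.toHom f
  rw [K622.Basic.ofHom_toHom] at h1
  exact h1.symm

/-- The image of a quasi-compact point under a quasi-compact morphism is a quasi-compact point. -/
theorem repWith_quasiCompact_map {X Y : Sp S} (hX : IsAlgSpace X) (hY : IsAlgSpace Y) (f : X ⟶ Y)
    (hq : IsQuasiCompactMor f) (p : FieldPt X) (hp : RepWith @QuasiCompact p.toHom) :
    RepWith @QuasiCompact (p.map f).toHom := by
  rw [FieldPt.toHom_map]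
  refine K596.QC.repWith_of_isQuasiCompactMor (hY.representable_from_yon (U := p.pt) _) ?_
  exact K596.QC.isQuasiCompactMor_comp hX hY (K596.QC.isQuasiCompactMor_of_repWith hp) hq

/-- The passage from quasi-compact points to quasi-compact mono points (the statement S10361). -/
def QCMono (X : Sp S) : Prop :=
  ∀ q : FieldPt X, RepWith @QuasiCompact q.toHom →
    ∃ p : FieldPt X, Points.mk p = Points.mk q ∧ Mono p.toHom ∧ RepWith @QuasiCompact p.toHom

/-- The image of a decent space under a quasi-compact surjective morphism is decent. -/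
theorem isDecent_of_surjective {X Y : Sp S} (hY : IsAlgSpace Y) (h61 : QCMono Y) (hX : IsAlgSpace X) (f : X ⟶ Y)
    (hq : IsQuasiCompactMor f) (hs : IsSurjectiveMor f) (hd : IsDecent X) : IsDecent Y := by
  intro y
  obtain ⟨x, rfl⟩ := hs y
  obtain ⟨p, rfl, -, hp⟩ := hd x
  exact h61 (p.map f) (repWith_quasiCompact_map hX hY f hq p hp)

/-- Decency of a morphism may be checked on an étale cover of the target. -/
theorem isDecentMor_of_etale_cover (h61 : ∀ P : Sp S, IsAlgSpace P → QCMono P) {X Y X' : Sp S} (hX : IsAlgSpace X)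
    (hY : IsAlgSpace Y) (f : X ⟶ Y) {V : Over S}
    (p : (yon S).obj V ⟶ Y) (hp : RepWith @Etale p) (hps : RepWith @Surjective p)
    (fst : X' ⟶ X) (snd : X' ⟶ (yon S).obj V) (hsq : IsPullback fst snd f p) (h : IsDecentMor snd) :
    IsDecentMor f := by
  refine K620.Dec.isDecentMor_of_field_base_changes f ?_
  intro k _ str g P a b sq
  have hP : IsAlgSpace P :=
    K613.Chart.isAlgSpace_of_isPullback hY.diag hX (IsAlgSpace.yon_obj _) sq
  -- `W = V ×_Y Spec k`
  obtain ⟨W, i, j, sqW⟩ := K611.exists_pullback p g hp.1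
  have hje : Etale j.left := hp.2 _ _ _ sqW
  have hjs : Surjective j.left := hps.2 _ _ _ sqW
  have hWd : DiscreteTopology ↥W.left := K618.Sch.discreteTopology_of_etale_field (k := k) j.left
  obtain ⟨w, -⟩ := j.left.surjective (IsLocalRing.closedPoint k : ↥(Spec (CommRingCat.of k)))
  let O : W.left.Opens := ⟨{w}, isOpen_discrete _⟩
  let T' : Over S := Over.mk (O.ι ≫ W.hom)
  let o : T' ⟶ W := Over.homMk O.ι rfl
  have hne : Nonempty ↥T'.left := ⟨(⟨w, rfl⟩ : ↥O)⟩
  have hTf : Finite ↥T'.left := inferInstanceAs (Finite ({w} : Set ↥W.left))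
  have hTc : CompactSpace ↥T'.left := inferInstance
  have : IsAffine (Over.mk str).left := inferInstanceAs (IsAffine (Spec (CommRingCat.of k)))
  have hcq : QuasiCompact (o ≫ j).left := inferInstance
  have hcs : Surjective (o ≫ j).left :=
    ⟨fun y => ⟨Classical.arbitrary _, Subsingleton.elim (α := PrimeSpectrum k) _ _⟩⟩
  -- `P' = X' ×_V T'`
  let t : (yon S).obj T' ⟶ (yon S).obj V := (yon S).map (o ≫ i)
  have sq1 : IsPullback (pullback.fst snd t) (pullback.snd snd t) snd t := .of_hasPullback snd t
  have hP' : IsDecent (pullback snd t) := h t _ _ sq1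
  have sq2 : IsPullback (pullback.fst snd t ≫ fst) (pullback.snd snd t) f (t ≫ p) :=
    (sq1.flip.paste_vert hsq.flip).flip
  have htp : t ≫ p = (yon S).map (o ≫ j) ≫ g := by
    show (yon S).map (o ≫ i) ≫ p = _
    rw [Functor.map_comp, Functor.map_comp, Category.assoc, Category.assoc, sqW.w]
  let m : pullback snd t ⟶ P := sq.lift (pullback.fst snd t ≫ fst) (pullback.snd snd t ≫ (yon S).map (o ≫ j)) (by
    rw [sq2.w, htp, Category.assoc])
  have hm1 : m ≫ a = pullback.fst snd t ≫ fst := sq.lift_fst _ _ _
  have hm2 : m ≫ b = pullback.snd snd t ≫ (yon S).map (o ≫ j) := sq.lift_snd _ _ _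
  have sq3 : IsPullback m (pullback.snd snd t) b ((yon S).map (o ≫ j)) := by
    refine IsPullback.of_right (h₁₂ := a) (v₁₃ := f) (h₂₂ := g) ?_ hm2 sq
    rw [hm1, ← htp]
    exact sq2
  have hmq : RepWith @QuasiCompact m :=
    MorphismProperty.of_isPullback (P := RepWith @QuasiCompact) sq3.flip ((repWith_yon_map_iff _ _).2 hcq)
  have hms : RepWith @Surjective m :=
    MorphismProperty.of_isPullback (P := RepWith @Surjective) sq3.flip ((repWith_yon_map_iff _ _).2 hcs)
  have hPA : IsAlgSpace (pullback snd t) :=
    K613.Chart.isAlgSpace_of_isPullback hY.diag hX (IsAlgSpace.yon_obj _) sq2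
  exact isDecent_of_surjective hP (h61 P hP) hPA m (K596.QC.isQuasiCompactMor_of_repWith hmq)
    (K609.Points.surjective_map_of_repWith_surjective hms) hP'

end K620.QCDec
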